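import Cfsg.Agent.SB.Spor.Eng

/-!
# S5765, sporadic rows: the certificate engine, part 2 (helper63)

Orbit enumeration, lower bounds for orders along a chain of point stabilisers, bases, normalisers,
polycyclic sequences and the classes of elements of prime order.
-/

set_option autoImplicit false

namespace Cfsg.Agent.SB.Spor

open Subgroup Cfsg
open scoped Classical

theorem ne_of_blt {v : ℕ} (h : Nat.blt (nat_lit 0) v = true) : v ≠ 0 := by
  rintro rfl
  exact absurd h (by decide)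

/-! ### orbit enumeration -/

/-- case distinction zero / non-zero -/
noncomputable def cz {β : Type} (v : ℕ) (a b : β) : β := Nat.rec a (fun _ _ => b) v

theorem cz_cases {β : Type} (v : ℕ) (a b : β) : (v = 0 ∧ cz v a b = a) ∨ cz v a b = b := by
  cases v
  exacts [Or.inl ⟨rfl, rfl⟩, Or.inr rfl]

/-- the images of one point -/
noncomputable def bstep (p : ℕ) (k : List ℕ → ℕ → ℕ → ℕ) (gens : List (ℕ → ℕ)) : List ℕ → ℕ → ℕ → ℕ :=
  List.rec (fun s m c => k s m c) (fun f _ ih s m c => frc (f p) fun q =>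
    cz (Nat.land (nat_lit 1) (Nat.shiftRight m q))
      (frc (Nat.lor m (Nat.shiftLeft (nat_lit 1) q)) fun m' => frc (Nat.succ c) fun c' => ih (q :: s) m' c')
      (ih s m c)) gens

/-- pop a point -/
noncomputable def pop (s : List ℕ) (d : ℕ) (k : ℕ → List ℕ → ℕ) : ℕ := List.rec d (fun p t _ => k p t) s

/-- number of points found -/
noncomputable def bfs (gens : List (ℕ → ℕ)) (fuel : ℕ) : List ℕ → ℕ → ℕ → ℕ :=
  Nat.rec (fun _ _ c => c) (fun _ ih s m c => pop s c fun p t => bstep p ih gens t m c) fuel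

/-- the invariant of the enumeration -/
def BInv (O : Set ℕ) (s : List ℕ) (m c : ℕ) : Prop :=
  (∀ q ∈ s, q ∈ O) ∧ ∃ L : Finset ℕ, L.card = c ∧ ∀ q ∈ L, q ∈ O ∧ m.testBit q = true

theorem BInv.le {O : Set ℕ} (hO : O.Finite) {s : List ℕ} {m c : ℕ} (h : BInv O s m c) : c ≤ O.ncard := by
  obtain ⟨-, L, rfl, h2⟩ := h
  rw [← Set.ncard_coe_finset]
  exact Set.ncard_le_ncard (fun q hq => (h2 q hq).1) hO

theorem bstep_le {O : Set ℕ} {r p : ℕ} {k : List ℕ → ℕ → ℕ → ℕ} (hk : ∀ s m c, BInv O s m c → k s m c ≤ r)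
    (gens : List (ℕ → ℕ)) (hg : ∀ f ∈ gens, f p ∈ O) : ∀ s m c, BInv O s m c → bstep p k gens s m c ≤ r := by
  induction gens with
  | nil => exact hk
  | cons f gens ih =>
    intro s m c h
    have ih' := ih fun g hg' => hg g (List.mem_cons_of_mem _ hg')
    have e : bstep p k (f :: gens) s m c = frc (f p) fun q => cz (1 &&& (m >>> q))
      (frc (m ||| (1 <<< q)) fun m' => frc (c + 1) fun c' => bstep p k gens (q :: s) m' c')
      (bstep p k gens s m c) := rfl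
    rw [e, frc_eq]
    rcases cz_cases (1 &&& (m >>> f p)) (frc (m ||| (1 <<< f p)) fun m' => frc (c + 1) fun c' =>
      bstep p k gens (f p :: s) m' c') (bstep p k gens s m c) with ⟨h1, h2⟩ | h2
    · rw [h2, frc_eq, frc_eq]
      apply ih'
      obtain ⟨h3, L, h4, h5⟩ := h
      have h6 := hg f List.mem_cons_self
      have h7 : f p ∉ L := fun hL => by
        have := (h5 _ hL).2
        rw [Nat.testBit, h1] at this
        exact absurd this (by simp)
      refine ⟨fun q hq => ?_, insert (f p) L, by rw [Finset.card_insert_of_notMem h7, h4], fun q hq => ?_⟩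
      · rcases List.mem_cons.1 hq with rfl | hq
        exacts [h6, h3 q hq]
      · rw [Nat.testBit_or, Nat.one_shiftLeft]
        rcases Finset.mem_insert.1 hq with rfl | hq
        · exact ⟨h6, by simp⟩
        · exact ⟨(h5 q hq).1, by simp [(h5 q hq).2]⟩
    · rw [h2]
      exact ih' s m c h

theorem bfs_le {O : Set ℕ} (hO : O.Finite) {gens : List (ℕ → ℕ)} (hg : ∀ f ∈ gens, ∀ p ∈ O, f p ∈ O) (fuel : ℕ) :
    ∀ s m c, BInv O s m c → bfs gens fuel s m c ≤ O.ncard := by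
  induction fuel with
  | zero => exact fun s m c h => h.le hO
  | succ j ih =>
    intro s m c h
    cases s with
    | nil => exact h.le hO
    | cons p t =>
      exact bstep_le ih gens (fun f hf => hg f hf p (h.1 p List.mem_cons_self)) t m c
        ⟨fun q hq => h.1 q (List.mem_cons_of_mem _ hq), h.2⟩

/-! ### chains -/

variable {G : Type*} [Group G] {n : ℕ}

/-- the pointwise stabiliser -/
def Fx (M : PM G n) (B : List ℕ) : Subgroup G where
  carrier := {g | ∀ b ∈ B, b < n → M.act g b = b}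
  mul_mem' := fun {g h} hg hh b hb hn => by rw [M.mul _ _ _ hn, hh b hb hn, hg b hb hn]
  one_mem' := fun b _ hn => M.one b hn
  inv_mem' := fun {g} hg b hb hn => by
    have := PM.act_inv (M := M) g hn
    rwa [hg b hb hn] at this

theorem mem_Fx {M : PM G n} {B : List ℕ} {g : G} : g ∈ Fx M B ↔ ∀ b ∈ B, b < n → M.act g b = b := Iff.rfl

theorem orbit_mul_le [Finite G] (M : PM G n) (K : Subgroup G) {b : ℕ} (hb : b < n) :
    {q | ∃ g ∈ K, M.act g b = q}.ncard * Nat.card ↥(K ⊓ Fx M [b]) ≤ Nat.card K := by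
  rw [← Nat.card_coe_set_eq, ← Nat.card_prod]
  choose r hr1 hr2 using fun q : {q | ∃ g ∈ K, M.act g b = q} => q.2
  refine Nat.card_le_card_of_injective
    (fun z : {q | ∃ g ∈ K, M.act g b = q} × ↥(K ⊓ Fx M [b]) => (⟨r z.1 * z.2.1, mul_mem (hr1 z.1) z.2.2.1⟩ : K)) ?_
  rintro ⟨q, s⟩ ⟨q', s'⟩ h
  have h1 : r q * s.1 = r q' * s'.1 := congrArg Subtype.val h
  have h2 : q = q' := by
    apply Subtype.ext
    rw [← hr2 q, ← hr2 q']
    have h3 := congrArg (fun g => M.act g b) h1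
    simp only [M.mul _ _ _ hb] at h3
    rwa [s.2.2 b (by simp) hb, s'.2.2 b (by simp) hb] at h3
  subst h2
  exact Prod.ext rfl (Subtype.ext (mul_left_cancel h1))

/-- compile a list of words, testing each of them -/
noncomputable def cmpAll (lk : ℕ → ℕ → ℕ) (E : List ℕ) (ok : (ℕ → ℕ) → Bool) (codes : List ℕ) :
    (List (ℕ → ℕ) → ℕ) → ℕ :=
  List.rec (fun k => k []) (fun c _ ih k =>
    decF lk E (fun f => cnd (ok f) (ih fun l => k (f :: l)) (nat_lit 0)) (nat_lit 200) c idf) codes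

theorem cmpAll_spec {M : PM G n} {lk : ℕ → ℕ → ℕ} {E : List ℕ} {H₀ : Subgroup G}
    (hE : ∀ t ∈ E, ∃ g ∈ H₀, M.Rf g (lk t)) (ok : (ℕ → ℕ) → Bool) (codes : List ℕ) (k : List (ℕ → ℕ) → ℕ) :
    cmpAll lk E ok codes k = 0 ∨
      ∃ l, cmpAll lk E ok codes k = k l ∧ ∀ f ∈ l, ok f = true ∧ ∃ g ∈ H₀, M.Rf g f := by
  induction codes generalizing k with
  | nil => exact Or.inr ⟨[], rfl, by simp⟩
  | cons c codes ih =>
    obtain ⟨g, hg, f, h1, h2⟩ := decF_spec hE (fun f => cnd (ok f) (cmpAll lk E ok codes fun l => k (f :: l)) (nat_lit 0))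
      (nat_lit 200) c 1 idf (one_mem _) PM.rf_one
    have e : cmpAll lk E ok (c :: codes) k = cnd (ok f) (cmpAll lk E ok codes fun l => k (f :: l)) (nat_lit 0) := h2
    rw [e]
    cases hf : ok f
    · exact Or.inl rfl
    · rw [cnd_true]
      rcases ih fun l => k (f :: l) with h3 | ⟨l, h3, h4⟩
      · exact Or.inl h3
      · refine Or.inr ⟨f :: l, h3, fun f' hf' => ?_⟩
        rcases List.mem_cons.1 hf' with rfl | hf'
        exacts [⟨hf, g, hg, h1⟩, h4 f' hf']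

/-- product of the orbit lengths along a chain of point stabilisers -/
noncomputable def chain (lk : ℕ → ℕ → ℕ) (E : List ℕ) (n : ℕ) (okg : (ℕ → ℕ) → Bool) (levels : List (ℕ × List ℕ)) :
    List ℕ → ℕ :=
  List.rec (fun _ => nat_lit 1) (fun lv _ ih prev => pr lv fun b codes => cnd (Nat.blt b n)
    (cmpAll lk E (fun f => cnd (okg f) (eqB prev f idf) false) codes fun gens =>
      Nat.mul (bfs gens n [b] (Nat.shiftLeft (nat_lit 1) b) (nat_lit 1)) (ih (b :: prev))) (nat_lit 0)) levels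

theorem chain_spec [Finite G] {M : PM G n} {lk : ℕ → ℕ → ℕ} {E : List ℕ} {H₀ H : Subgroup G}
    (hE : ∀ t ∈ E, ∃ g ∈ H₀, M.Rf g (lk t)) {okg : (ℕ → ℕ) → Bool}
    (hok : ∀ g ∈ H₀, ∀ f, M.Rf g f → okg f = true → g ∈ H) (levels : List (ℕ × List ℕ)) :
    ∀ prev, chain lk E n okg levels prev * Nat.card ↥(H ⊓ Fx M prev ⊓ Fx M (levels.map Prod.fst)) ≤
      Nat.card ↥(H ⊓ Fx M prev) := by
  induction levels with
  | nil =>
    intro prev
    have e : chain lk E n okg [] prev = 1 := rfl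
    rw [e, one_mul]
    exact card_le_of_le inf_le_left
  | cons lv levels ih =>
    obtain ⟨b, codes⟩ := lv
    intro prev
    have e : chain lk E n okg ((b, codes) :: levels) prev = pr (b, codes) fun b codes => cnd (Nat.blt b n)
      (cmpAll lk E (fun f => cnd (okg f) (eqB prev f idf) false) codes fun gens =>
        Nat.mul (bfs gens n [b] (1 <<< b) 1) (chain lk E n okg levels (b :: prev))) 0 := rfl
    rw [e, pr_eq]
    cases hb : Nat.blt b n
    · rw [cnd_false, zero_mul]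
      exact Nat.zero_le _
    rw [cnd_true]
    have hb' : b < n := by simpa using hb
    rcases cmpAll_spec hE (fun f => cnd (okg f) (eqB prev f idf) false) codes (fun gens =>
      Nat.mul (bfs gens n [b] (1 <<< b) 1) (chain lk E n okg levels (b :: prev))) with h1 | ⟨l, h1, h2⟩
    · rw [h1, zero_mul]
      exact Nat.zero_le _
    rw [h1]
    have hO : {q | ∃ g ∈ H ⊓ Fx M prev, M.act g b = q}.Finite :=
      (Set.finite_lt_nat n).subset (by rintro _ ⟨g, -, rfl⟩; exact M.lt g b hb')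
    have h3 := bfs_le hO (gens := l) (by
      rintro f hf _ ⟨g, hg, rfl⟩
      obtain ⟨h4, a, ha, h5⟩ := h2 f hf
      have h6 := cnd_and h4
      refine ⟨a * g, mul_mem ⟨hok a ha f h5 h6.1, fun c hc hn => ?_⟩ hg, ?_⟩
      · rw [h5 c hn]
        exact of_eqB h6.2 c hc
      · rw [M.mul _ _ _ hb', h5 _ (M.lt _ _ hb')]) n [b] (1 <<< b) 1
      ⟨fun q hq => by rw [List.mem_singleton.1 hq]; exact ⟨1, one_mem _, M.one b hb'⟩, {b}, by simp, fun q hq => by
        rw [Finset.mem_singleton.1 hq]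
        exact ⟨⟨1, one_mem _, M.one b hb'⟩, by simp [Nat.one_shiftLeft]⟩⟩
    have h4 := orbit_mul_le M (H ⊓ Fx M prev) hb'
    have h5 := ih (b :: prev)
    have h6 : Nat.card ↥(H ⊓ Fx M (b :: prev)) ≤ Nat.card ↥(H ⊓ Fx M prev ⊓ Fx M [b]) :=
      card_le_of_le fun g hg => ⟨⟨hg.1, fun c hc => hg.2 c (List.mem_cons_of_mem _ hc)⟩,
        fun c hc => hg.2 c (by simp at hc; simp [hc])⟩
    have h7 : Nat.card ↥(H ⊓ Fx M prev ⊓ Fx M (((b, codes) :: levels).map Prod.fst)) ≤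
        Nat.card ↥(H ⊓ Fx M (b :: prev) ⊓ Fx M (levels.map Prod.fst)) :=
      card_le_of_le fun g hg => ⟨⟨hg.1.1, fun c hc => by
        rcases List.mem_cons.1 hc with rfl | hc
        exacts [hg.2 c (by simp), hg.1.2 c hc]⟩, fun c hc => hg.2 c (List.mem_cons_of_mem _ hc)⟩
    calc _ ≤ bfs l n [b] (1 <<< b) 1 * (chain lk E n okg levels (b :: prev) *
          Nat.card ↥(H ⊓ Fx M (b :: prev) ⊓ Fx M (levels.map Prod.fst))) := by
          rw [← mul_assoc]
          exact Nat.mul_le_mul_left _ h7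
      _ ≤ _ := le_trans (Nat.mul_le_mul h3 (h5.trans h6)) h4

theorem Fx_nil (M : PM G n) (H : Subgroup G) : H ⊓ Fx M [] = H :=
  inf_eq_left.2 fun _ _ _ hb => absurd hb (by simp)

theorem chain_le [Finite G] {M : PM G n} {lk : ℕ → ℕ → ℕ} {E : List ℕ} {H₀ H : Subgroup G}
    (hE : ∀ t ∈ E, ∃ g ∈ H₀, M.Rf g (lk t)) {okg : (ℕ → ℕ) → Bool}
    (hok : ∀ g ∈ H₀, ∀ f, M.Rf g f → okg f = true → g ∈ H) {levels : List (ℕ × List ℕ)} {m : ℕ}
    (h : Nat.ble m (chain lk E n okg levels []) = true) : m ≤ Nat.card H := by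
  have h1 := chain_spec hE hok levels []
  rw [Fx_nil] at h1
  have h2 : 0 < Nat.card ↥(H ⊓ Fx M (levels.map Prod.fst)) := Nat.card_pos
  exact (Nat.le_of_ble_eq_true h).trans ((Nat.le_mul_of_pos_right _ h2).trans h1)

/-- the check of a base -/
noncomputable def baseChk (lk : ℕ → ℕ → ℕ) (E : List ℕ) (n N : ℕ) (levels : List (ℕ × List ℕ)) : Bool :=
  cnd (allL (levels.map Prod.fst) fun b => Nat.blt b n) (Nat.ble N (chain lk E n (fun _ => true) levels [])) false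

theorem base_of_chk [Finite G] {M : PM G n} {lk : ℕ → ℕ → ℕ} {E : List ℕ} (hE : AllIn M lk E) {N : ℕ}
    (hN : Nat.card G ≤ N) {levels : List (ℕ × List ℕ)} {B : List ℕ} (hB : levels.map Prod.fst = B)
    (h : baseChk lk E n N levels = true) : M.Base B ∧ Nat.card G = N := by
  have h0 := cnd_and h
  have h1 := chain_spec (H := ⊤) hE.top (okg := fun _ => true) (fun _ _ _ _ _ => mem_top _) levels []
  rw [Fx_nil, card_top, hB, top_inf_eq] at h1
  have h2 := Nat.le_of_ble_eq_true h0.2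
  have h3 : 0 < Nat.card (Fx M B) := Nat.card_pos
  have h4 : 0 < Nat.card G := Nat.card_pos
  have h6 : N * Nat.card (Fx M B) ≤ Nat.card G := (Nat.mul_le_mul_right _ h2).trans h1
  have h5 : Nat.card (Fx M B) ≤ 1 :=
    Nat.le_of_mul_le_mul_left ((h6.trans hN).trans (mul_one N).ge) (h4.trans_le hN)
  refine ⟨⟨fun b hb => by simpa using of_allL h0.1 b (hB ▸ hb), fun g hg => ?_⟩,
    le_antisymm hN ((Nat.le_mul_of_pos_right _ h3).trans h6)⟩
  have : g ∈ Fx M B := fun b hb _ => hg b hb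
  rwa [eq_bot_of_card_le _ h5, mem_bot] at this

/-- `f` normalises the cyclic group of `x` -/
noncomputable def okN (lk : ℕ → ℕ → ℕ) (B : List ℕ) (x p : ℕ) (f : ℕ → ℕ) : Bool :=
  anyN p fun a => eqB B (fun q => f (lk x q)) fun q => itr (lk x) a (f q)

theorem norm_ge [Finite G] {M : PM G n} {lk : ℕ → ℕ → ℕ} {B : List ℕ} (hB : M.Base B) {E : List ℕ} (hE : AllIn M lk E)
    {x p ν : ℕ} (hx : M.In lk x) {levels : List (ℕ × List ℕ)}
    (h : Nat.ble ν (chain lk E n (okN lk B x p) levels []) = true) :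
    ν ≤ Nat.card (normalizer (zpowers (M.el lk x) : Set G)) := by
  refine chain_le hE.top (fun g _ f hf hok => ?_) h
  obtain ⟨a, ha⟩ := of_anyN hok
  have h1 := hB.eq (hf.mul hx.rf) ((hx.rf.pow a).mul hf) ha
  apply mem_normalizer_fintype
  rintro _ ⟨k, rfl⟩
  have h2 : g * M.el lk x * g⁻¹ = M.el lk x ^ a := by rw [h1]; group
  have h3 : g * M.el lk x ^ k * g⁻¹ = (M.el lk x ^ a) ^ k := by rw [← h2, conj_zpow]
  show g * M.el lk x ^ k * g⁻¹ ∈ zpowers (M.el lk x)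
  rw [h3]
  exact zpow_mem (npow_mem_zpowers _ _) k

theorem one_le_norm [Finite G] (x : G) : 1 ≤ Nat.card (normalizer (zpowers x : Set G)) := Nat.card_pos

theorem ord_le_norm [Finite G] {x : G} {p : ℕ} (h : orderOf x = p) : p ≤ Nat.card (normalizer (zpowers x : Set G)) := by
  rw [← h, ← Nat.card_zpowers]
  exact card_le_of_le le_normalizer

/-! ### polycyclic sequences -/

/-- destructure a triple -/
noncomputable def pr3 {γ : Type} (g : ℕ × ℕ × ℕ) (k : ℕ → ℕ → ℕ → γ) : γ :=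
  Prod.rec (fun o r => Prod.rec (fun t i => k o t i) r) g

theorem pr3_eq {γ : Type} (o t i : ℕ) (k : ℕ → ℕ → ℕ → γ) : pr3 (o, t, i) k = k o t i := rfl

section pc

variable (M : PM G n) (lk : ℕ → ℕ → ℕ)

/-- the group generated by a sequence of triples (relative order, table, inverse table) -/
def Mg (gs : List (ℕ × ℕ × ℕ)) : Subgroup G := closure {x | ∃ g ∈ gs, x = M.el lk g.2.1}

/-- normal forms -/
def NF (gs : List (ℕ × ℕ × ℕ)) : G → Prop :=
  List.rec (fun y => y = 1) (fun g _ ih y => ∃ e < g.1, ∃ m, ih m ∧ y = m * M.el lk g.2.1 ^ e) gs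

/-- the normal form with number `c` -/
noncomputable def evc (gs : List (ℕ × ℕ × ℕ)) : ℕ → G :=
  List.rec (fun _ => 1) (fun g _ ih c => ih (c / g.1) * M.el lk g.2.1 ^ (c % g.1)) gs

/-- product of the relative orders -/
def prodO (gs : List (ℕ × ℕ × ℕ)) : ℕ := (gs.map Prod.fst).prod

/-- a polycyclic sequence -/
def PCok (gs : List (ℕ × ℕ × ℕ)) : Prop :=
  List.rec True (fun g r ih => 0 < g.1 ∧ M.el lk g.2.1 ^ g.1 ∈ Mg M lk r ∧
    (∀ m ∈ Mg M lk r, (M.el lk g.2.1)⁻¹ * m * M.el lk g.2.1 ∈ Mg M lk r) ∧ ih) gs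

/-- all tables of a sequence describe elements -/
def GsIn (gs : List (ℕ × ℕ × ℕ)) : Prop := ∀ g ∈ gs, M.In lk g.2.1

variable {M lk}

theorem GsIn.tail {g : ℕ × ℕ × ℕ} {gs : List (ℕ × ℕ × ℕ)} (h : GsIn M lk (g :: gs)) : GsIn M lk gs :=
  fun a ha => h a (List.mem_cons_of_mem _ ha)

theorem GsIn.of_all {E : List ℕ} (hE : AllIn M lk E) {gs : List (ℕ × ℕ × ℕ)} (h : ∀ g ∈ gs, g.2.1 ∈ E) :
    GsIn M lk gs := fun g hg => hE _ (h g hg)

theorem Mg_nil : Mg M lk [] = ⊥ := by simp [Mg]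

theorem Mg_tail (g : ℕ × ℕ × ℕ) (gs : List (ℕ × ℕ × ℕ)) : Mg M lk gs ≤ Mg M lk (g :: gs) :=
  closure_mono fun _ ⟨a, ha, h⟩ => ⟨a, List.mem_cons_of_mem _ ha, h⟩

theorem mem_Mg {g : ℕ × ℕ × ℕ} {gs : List (ℕ × ℕ × ℕ)} (h : g ∈ gs) : M.el lk g.2.1 ∈ Mg M lk gs :=
  subset_closure ⟨g, h, rfl⟩

theorem evc_mem (gs : List (ℕ × ℕ × ℕ)) : ∀ c, evc M lk gs c ∈ Mg M lk gs := by
  induction gs with
  | nil => exact fun _ => one_mem _
  | cons g gs ih => exact fun c => mul_mem (Mg_tail g gs (ih _)) (pow_mem (mem_Mg List.mem_cons_self) _)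

theorem PCok.step [Finite G] {g : ℕ × ℕ × ℕ} {gs : List (ℕ × ℕ × ℕ)} (h : PCok M lk (g :: gs)) :
    ∀ y ∈ Mg M lk (g :: gs), ∃ e < g.1, ∃ m ∈ Mg M lk gs, y = m * M.el lk g.2.1 ^ e := by
  obtain ⟨h0, h1, h2, -⟩ := h
  set t := M.el lk g.2.1 with ht
  have hn : t ∈ normalizer (Mg M lk gs : Set G) := by
    rw [← inv_mem_iff]
    exact mem_normalizer_fintype fun m hm => by simpa using h2 m hm
  have h3 : ∀ y ∈ Mg M lk (g :: gs), ∃ e : ℤ, ∃ m ∈ Mg M lk gs, y = m * t ^ e := by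
    intro y hy
    induction hy using closure_induction with
    | mem x hx =>
      obtain ⟨a, ha, rfl⟩ := hx
      rcases List.mem_cons.1 ha with rfl | ha
      · exact ⟨1, 1, one_mem _, by simp [ht]⟩
      · exact ⟨0, _, mem_Mg ha, by simp⟩
    | one => exact ⟨0, 1, one_mem _, by simp⟩
    | mul x y _ _ ihx ihy =>
      obtain ⟨a, m, hm, rfl⟩ := ihx
      obtain ⟨b, m', hm', rfl⟩ := ihy
      refine ⟨a + b, m * (t ^ a * m' * (t ^ a)⁻¹), mul_mem hm ((mem_normalizer_iff.1 (zpow_mem hn a) m').1 hm'), ?_⟩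
      group
    | inv x _ ih =>
      obtain ⟨a, m, hm, rfl⟩ := ih
      refine ⟨-a, t ^ (-a) * m⁻¹ * (t ^ (-a))⁻¹, (mem_normalizer_iff.1 (zpow_mem hn (-a)) m⁻¹).1 (inv_mem hm), ?_⟩
      group
  intro y hy
  obtain ⟨e, m, hm, rfl⟩ := h3 y hy
  have h4 : (0 : ℤ) < g.1 := by exact_mod_cast h0
  have h5 := Int.emod_nonneg e h4.ne'
  have h6 := Int.emod_lt_of_pos e h4
  refine ⟨(e % g.1).toNat, by omega, m * (t ^ g.1) ^ (e / g.1), mul_mem hm (zpow_mem h1 _), ?_⟩
  rw [mul_assoc, ← zpow_natCast t, ← zpow_natCast t, ← zpow_mul, ← zpow_add, Int.toNat_of_nonneg h5,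
    Int.mul_ediv_add_emod]

theorem PCok.tail {g : ℕ × ℕ × ℕ} {gs : List (ℕ × ℕ × ℕ)} (h : PCok M lk (g :: gs)) : PCok M lk gs := h.2.2.2

theorem PCok.nf [Finite G] {gs : List (ℕ × ℕ × ℕ)} (h : PCok M lk gs) : ∀ y ∈ Mg M lk gs, NF M lk gs y := by
  induction gs with
  | nil => intro y hy; rwa [Mg_nil, mem_bot] at hy
  | cons g gs ih =>
    intro y hy
    obtain ⟨e, he, m, hm, rfl⟩ := h.step y hy
    exact ⟨e, he, m, ih h.tail m hm, rfl⟩

theorem PCok.right {A B : List (ℕ × ℕ × ℕ)} (h : PCok M lk (A ++ B)) : PCok M lk B := by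
  induction A with
  | nil => exact h
  | cons g A ih => exact ih (PCok.tail h)

theorem PCok.card_step [Finite G] {g : ℕ × ℕ × ℕ} {gs : List (ℕ × ℕ × ℕ)} (h : PCok M lk (g :: gs)) :
    Nat.card (Mg M lk (g :: gs)) ≤ g.1 * Nat.card (Mg M lk gs) := by
  have h1 : Nat.card (Fin g.1 × Mg M lk gs) = g.1 * Nat.card (Mg M lk gs) := by rw [Nat.card_prod, Nat.card_fin]
  rw [← h1]
  choose e he m hm h2 using fun y : Mg M lk (g :: gs) => h.step y y.2
  refine Nat.card_le_card_of_injective (fun y => ((⟨e y, he y⟩, ⟨m y, hm y⟩) : Fin g.1 × Mg M lk gs)) fun a b hab => ?_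
  have h3 : e a = e b := congrArg (fun z : Fin g.1 × Mg M lk gs => z.1.1) hab
  have h4 : m a = m b := congrArg (fun z : Fin g.1 × Mg M lk gs => z.2.1) hab
  exact Subtype.ext (by rw [h2 a, h2 b, h3, h4])

theorem PCok.card_append [Finite G] {A B : List (ℕ × ℕ × ℕ)} (h : PCok M lk (A ++ B)) :
    Nat.card (Mg M lk (A ++ B)) ≤ prodO A * Nat.card (Mg M lk B) := by
  induction A with
  | nil => simp [prodO]
  | cons g A ih =>
    have e : prodO (g :: A) = g.1 * prodO A := by simp [prodO]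
    rw [e, mul_assoc]
    exact le_trans (PCok.card_step h) (Nat.mul_le_mul_left _ (ih (PCok.tail h)))

theorem PCok.card_le [Finite G] {gs : List (ℕ × ℕ × ℕ)} (h : PCok M lk gs) : Nat.card (Mg M lk gs) ≤ prodO gs := by
  have h1 := PCok.card_append (A := gs) (B := []) (by rwa [List.append_nil])
  rwa [List.append_nil, Mg_nil, card_bot, mul_one] at h1

/-- a lower bound for the order of a final segment -/
theorem PCok.card_right [Finite G] {A B : List (ℕ × ℕ × ℕ)} (h : PCok M lk (A ++ B)) {m k : ℕ}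
    (hm : m ≤ Nat.card (Mg M lk (A ++ B))) (hk : prodO A * k ≤ m) (hA : 0 < prodO A) : k ≤ Nat.card (Mg M lk B) :=
  Nat.le_of_mul_le_mul_left (hk.trans (hm.trans h.card_append)) hA

theorem NF.append {A B : List (ℕ × ℕ × ℕ)} : ∀ {y : G}, NF M lk (A ++ B) y →
    ∃ m c, NF M lk B m ∧ c < prodO A ∧ NF M lk A (evc M lk A c) ∧ y = m * evc M lk A c := by
  induction A with
  | nil => exact fun {y} h => ⟨y, 0, h, by simp [prodO], rfl, (mul_one y).symm⟩
  | cons g A ih =>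
    rintro _ ⟨e, he, m', hm', rfl⟩
    obtain ⟨m, c, h1, h2, h3, rfl⟩ := ih hm'
    have h0 : 0 < g.1 := by omega
    have e1 : (e + g.1 * c) / g.1 = c := by rw [Nat.add_mul_div_left _ _ h0, Nat.div_eq_of_lt he, zero_add]
    have e2 : (e + g.1 * c) % g.1 = e := by rw [Nat.add_mul_mod_self_left, Nat.mod_eq_of_lt he]
    have e3 : evc M lk (g :: A) (e + g.1 * c) = evc M lk A c * M.el lk g.2.1 ^ e := by
      show evc M lk A ((e + g.1 * c) / g.1) * M.el lk g.2.1 ^ ((e + g.1 * c) % g.1) = _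
      rw [e1, e2]
    refine ⟨m, e + g.1 * c, h1, ?_, ⟨e, he, _, h3, e3⟩, by rw [e3, mul_assoc]⟩
    have e : prodO (g :: A) = g.1 * prodO A := by simp [prodO]
    rw [e]
    nlinarith

end pc

/-- apply a table `e` times -/
noncomputable def repF {β : Type} (lk : ℕ → ℕ → ℕ) (t : ℕ) (k : (ℕ → ℕ) → β) (e : ℕ) : (ℕ → ℕ) → β :=
  Nat.rec (fun f => k f) (fun _ ih f => ih fun q => lk t (f q)) e

/-- the normal form with a given number -/
noncomputable def dec {β : Type} (lk : ℕ → ℕ → ℕ) (k : (ℕ → ℕ) → β) (gs : List (ℕ × ℕ × ℕ)) : ℕ → (ℕ → ℕ) → β :=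
  List.rec (fun _ f => k f) (fun g _ ih c f => pr3 g fun o t _ =>
    frc (Nat.div c o) fun c' => repF lk t (ih c') (Nat.mod c o) f) gs

/-- the conjugation relations -/
noncomputable def conjAll (lk : ℕ → ℕ → ℕ) (B : List ℕ) (rdf : ℕ → ℕ) (t : ℕ) (r : List (ℕ × ℕ × ℕ))
    (l : List (ℕ × ℕ × ℕ)) : ℕ → ℕ :=
  List.rec (fun s => s) (fun g _ ih s => pr3 g fun _ t' _ => dec lk (fun f =>
    cnd (eqB B (fun q => lk t' (lk t q)) fun q => lk t (f q)) (frc (Nat.succ s) ih) (nat_lit 0)) r (rdf s) idf) l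

/-- the check of a polycyclic sequence -/
noncomputable def pcChk (lk : ℕ → ℕ → ℕ) (B : List ℕ) (rdf : ℕ → ℕ) (gs : List (ℕ × ℕ × ℕ)) : ℕ → ℕ :=
  List.rec (fun s => s) (fun g r ih s => pr3 g fun o t _ => cnd (Nat.blt (nat_lit 0) o) (dec lk (fun f =>
    cnd (eqB B (itr (lk t) o) f) (nz (conjAll lk B rdf t r r (Nat.succ s)) ih) (nat_lit 0)) r (rdf s) idf)
    (nat_lit 0)) gs

/-- the loop over the exponents -/
noncomputable def eloop (lk : ℕ → ℕ → ℕ) (t : ℕ) (body : (ℕ → ℕ) → ℕ → ℕ) (o : ℕ) : (ℕ → ℕ) → ℕ → ℕ :=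
  Nat.rec (fun _ s => s) (fun _ ih f s => nz (body f s) fun s' => ih (fun q => lk t (f q)) s') o

/-- run `leaf` on all normal forms -/
noncomputable def enum (lk : ℕ → ℕ → ℕ) (leaf : (ℕ → ℕ) → ℕ → ℕ) (gs : List (ℕ × ℕ × ℕ)) : (ℕ → ℕ) → ℕ → ℕ :=
  List.rec (fun f s => leaf f s) (fun g _ ih f s => pr3 g fun o t _ => eloop lk t ih o f s) gs

/-- an element with `y ^ p = 1` is trivial or conjugate to a listed normal form -/
noncomputable def leafCov (lk : ℕ → ℕ → ℕ) (B : List ℕ) (p : ℕ) (gs : List (ℕ × ℕ × ℕ)) (cls : List ℕ) (rdf : ℕ → ℕ)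
    (f : ℕ → ℕ) (s : ℕ) : ℕ :=
  cnd (eqB B (itr f p) idf) (cnd (eqB B f idf) s (frc (rdf s) fun sym => getK cls (nat_lit 0) (fun rc =>
    dec lk (fun fr => dec lk (fun fm => cnd (eqB B (fun q => fm (f q)) fun q => fr (fm q)) (Nat.succ s) (nat_lit 0)) gs
      (Nat.shiftRight sym (nat_lit 10)) idf) gs rc idf) (Nat.land sym (nat_lit 1023)))) s

/-- fusion of the listed normal forms: entries (number, representative, exponent, conjugating word) -/
noncomputable def fuse (lk : ℕ → ℕ → ℕ) (B E : List ℕ) (gs : List (ℕ × ℕ × ℕ)) (reps : List ℕ)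
    (fz : List (ℕ × ℕ × ℕ × ℕ)) : Bool :=
  allL fz fun z => pr z fun rc r => pr3 r fun i a hc => dec lk (fun fr => decF lk E (fun fh =>
    getK reps false (fun x => eqB B (fun q => fh (fr q)) fun q => itr (lk x) a (fh q)) i) (nat_lit 200) hc idf) gs rc idf

section pcspec

variable {M : PM G n} {lk : ℕ → ℕ → ℕ}

theorem repF_spec {β : Type} {t : ℕ} {x : G} (hx : M.Rf x (lk t)) (e : ℕ) :
    ∀ (y : G) (f : ℕ → ℕ), M.Rf y f → ∃ f', M.Rf (x ^ e * y) f' ∧ ∀ k : (ℕ → ℕ) → β, repF lk t k e f = k f' := by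
  induction e with
  | zero => exact fun y f h => ⟨f, by simpa using h, fun _ => rfl⟩
  | succ e ih =>
    intro y f h
    obtain ⟨f', h1, h2⟩ := ih _ _ (hx.mul h)
    exact ⟨f', by rwa [pow_succ, mul_assoc], h2⟩

theorem dec_spec {β : Type} {gs : List (ℕ × ℕ × ℕ)} (h : GsIn M lk gs) : ∀ (c : ℕ) (y : G) (f : ℕ → ℕ), M.Rf y f →
    ∃ f', M.Rf (evc M lk gs c * y) f' ∧ ∀ k : (ℕ → ℕ) → β, dec lk k gs c f = k f' := by
  induction gs with
  | nil => exact fun c y f hf => ⟨f, by simpa [evc] using hf, fun _ => rfl⟩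
  | cons g gs ih =>
    obtain ⟨o, t, i⟩ := g
    intro c y f hf
    obtain ⟨f1, h1, h2⟩ := repF_spec (β := β) (h _ List.mem_cons_self).rf (c % o) y f hf
    obtain ⟨f2, h3, h4⟩ := ih h.tail (c / o) _ _ h1
    refine ⟨f2, ?_, fun k => ?_⟩
    · rw [← mul_assoc] at h3
      exact h3
    · have e : dec lk k ((o, t, i) :: gs) c f = frc (c / o) fun c' => repF lk t (dec lk k gs c') (c % o) f := rfl
      rw [e, frc_eq, h2, h4]

theorem dec_one {β : Type} {gs : List (ℕ × ℕ × ℕ)} (h : GsIn M lk gs) (c : ℕ) :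
    ∃ f', M.Rf (evc M lk gs c) f' ∧ ∀ k : (ℕ → ℕ) → β, dec lk k gs c idf = k f' := by
  simpa using dec_spec h c 1 idf PM.rf_one

theorem conjAll_spec {B : List ℕ} (hB : M.Base B) (rdf : ℕ → ℕ) {t : ℕ} (ht : M.In lk t) {r : List (ℕ × ℕ × ℕ)}
    (hr : GsIn M lk r) (l : List (ℕ × ℕ × ℕ)) (hl : GsIn M lk l) : ∀ s, conjAll lk B rdf t r l s ≠ 0 →
      ∀ g ∈ l, (M.el lk t)⁻¹ * M.el lk g.2.1 * M.el lk t ∈ Mg M lk r := by
  induction l with
  | nil => simp
  | cons g l ih =>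
    obtain ⟨o, t', i⟩ := g
    intro s h
    obtain ⟨f, h1, h2⟩ := dec_one (β := ℕ) hr (rdf s)
    have e : conjAll lk B rdf t r ((o, t', i) :: l) s = pr3 (o, t', i) fun _ t' _ => dec lk (fun f =>
      cnd (eqB B (fun q => lk t' (lk t q)) fun q => lk t (f q)) (frc (Nat.succ s) (conjAll lk B rdf t r l))
        (nat_lit 0)) r (rdf s) idf := rfl
    rw [e, pr3_eq, h2] at h
    obtain ⟨h3, h4⟩ := cnd_ne h
    rw [frc_eq] at h4
    intro g hg
    rcases List.mem_cons.1 hg with rfl | hg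
    · have h5 := hB.eq ((hl _ List.mem_cons_self).rf.mul ht.rf) (ht.rf.mul h1) h3
      rw [mul_assoc, h5, inv_mul_cancel_left]
      exact evc_mem r _
    · exact ih hl.tail _ h4 g hg

theorem pcChk_spec {B : List ℕ} (hB : M.Base B) (rdf : ℕ → ℕ) {gs : List (ℕ × ℕ × ℕ)} (h : GsIn M lk gs) :
    ∀ s, pcChk lk B rdf gs s ≠ 0 → PCok M lk gs := by
  induction gs with
  | nil => exact fun _ _ => trivial
  | cons g r ih =>
    obtain ⟨o, t, i⟩ := g
    intro s hs
    obtain ⟨f, h1, h2⟩ := dec_one (β := ℕ) h.tail (rdf s)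
    have e : pcChk lk B rdf ((o, t, i) :: r) s = pr3 (o, t, i) fun o t _ => cnd (Nat.blt (nat_lit 0) o) (dec lk (fun f =>
      cnd (eqB B (itr (lk t) o) f) (nz (conjAll lk B rdf t r r (Nat.succ s)) (pcChk lk B rdf r)) (nat_lit 0)) r
        (rdf s) idf) (nat_lit 0) := rfl
    rw [e, pr3_eq] at hs
    obtain ⟨h3, h4⟩ := cnd_ne hs
    rw [h2] at h4
    obtain ⟨h5, h6⟩ := cnd_ne h4
    obtain ⟨h7, h8⟩ := nz_ne h6
    have ht : M.In lk t := h _ List.mem_cons_self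
    refine ⟨by simpa using h3, ?_, fun m hm => ?_, ih h.tail _ h8⟩
    · rw [hB.eq (ht.rf.pow o) h1 h5]
      exact evc_mem r _
    · have h9 := conjAll_spec hB rdf ht h.tail r h.tail _ h7
      show (M.el lk t)⁻¹ * m * M.el lk t ∈ Mg M lk r
      induction hm using closure_induction with
      | mem x hx =>
        obtain ⟨g, hg, rfl⟩ := hx
        exact h9 g hg
      | one => simp
      | mul x y _ _ ihx ihy =>
        have := mul_mem ihx ihy
        rwa [show (M.el lk t)⁻¹ * x * M.el lk t * ((M.el lk t)⁻¹ * y * M.el lk t) =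
          (M.el lk t)⁻¹ * (x * y) * M.el lk t by group] at this
      | inv x _ ihx =>
        have := inv_mem ihx
        rwa [show ((M.el lk t)⁻¹ * x * M.el lk t)⁻¹ = (M.el lk t)⁻¹ * x⁻¹ * M.el lk t by group] at this

theorem pc_of_chk {B : List ℕ} (hB : M.Base B) {rdf : ℕ → ℕ} {gs : List (ℕ × ℕ × ℕ)} (h : GsIn M lk gs)
    (hs : Nat.blt (nat_lit 0) (pcChk lk B rdf gs (nat_lit 1)) = true) : PCok M lk gs :=
  pcChk_spec hB rdf h _ (ne_of_blt hs)

/-- a lower bound for the order of the group of a sequence -/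
theorem Mg_ge [Finite G] {gs : List (ℕ × ℕ × ℕ)} (h : GsIn M lk gs) {E : List ℕ} (hE : gs.map (fun g => g.2.1) = E)
    {levels : List (ℕ × List ℕ)} {m : ℕ} (hm : Nat.ble m (chain lk E n (fun _ => true) levels []) = true) :
    m ≤ Nat.card (Mg M lk gs) := by
  refine chain_le (M := M) (H₀ := Mg M lk gs) (fun t ht => ?_) (fun g hg _ _ _ => hg) hm
  rw [← hE] at ht
  obtain ⟨g, hg, rfl⟩ := List.mem_map.1 ht
  exact ⟨_, mem_Mg hg, (h g hg).rf⟩

theorem eloop_spec {t : ℕ} {x : G} (hx : M.Rf x (lk t)) (body : (ℕ → ℕ) → ℕ → ℕ) (o : ℕ) :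
    ∀ (y : G) (f : ℕ → ℕ) (s : ℕ), M.Rf y f → eloop lk t body o f s ≠ 0 →
      ∀ e < o, ∃ f' s', M.Rf (x ^ e * y) f' ∧ body f' s' ≠ 0 := by
  induction o with
  | zero => simp
  | succ o ih =>
    intro y f s hf h e he
    obtain ⟨h1, h2⟩ := nz_ne (v := body f s) (k := fun s' => eloop lk t body o (fun q => lk t (f q)) s') h
    cases e with
    | zero => exact ⟨f, s, by simpa using hf, h1⟩
    | succ e =>
      obtain ⟨f', s', h3, h4⟩ := ih _ _ _ (hx.mul hf) h2 e (by omega)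
      exact ⟨f', s', by rwa [pow_succ, mul_assoc], h4⟩

theorem enum_spec {P : G → Prop} {leaf : (ℕ → ℕ) → ℕ → ℕ} (hleaf : ∀ y f s, M.Rf y f → leaf f s ≠ 0 → P y)
    {gs : List (ℕ × ℕ × ℕ)} (h : GsIn M lk gs) : ∀ (y : G) (f : ℕ → ℕ) (s : ℕ), M.Rf y f →
      enum lk leaf gs f s ≠ 0 → ∀ m, NF M lk gs m → P (m * y) := by
  induction gs with
  | nil =>
    rintro y f s hf hs _ rfl
    rw [one_mul]
    exact hleaf y f s hf hs
  | cons g gs ih =>
    obtain ⟨o, t, i⟩ := g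
    rintro y f s hf hs _ ⟨e, he, m, hm, rfl⟩
    obtain ⟨f', s', h1, h2⟩ := eloop_spec (h _ List.mem_cons_self).rf (enum lk leaf gs) o y f s hf hs e he
    rw [mul_assoc]
    exact ih h.tail _ _ _ h1 h2 m hm

/-- trivial or in a listed class -/
def Gd (M : PM G n) (lk : ℕ → ℕ → ℕ) (reps : List ℕ) (y : G) : Prop := y = 1 ∨ ∃ t ∈ reps, y ∈ Cl (M.el lk t)

theorem Gd.conj {reps : List ℕ} {y : G} (h : Gd M lk reps y) (g : G) : Gd M lk reps (g * y * g⁻¹) := by
  rcases h with rfl | ⟨t, ht, h⟩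
  exacts [Or.inl (by simp), Or.inr ⟨t, ht, Cl.conj h g⟩]

theorem fuse_spec {B E : List ℕ} (hB : M.Base B) (hE : AllIn M lk E) {gs : List (ℕ × ℕ × ℕ)} (hg : GsIn M lk gs)
    {reps : List ℕ} (hr : AllIn M lk reps) {fz : List (ℕ × ℕ × ℕ × ℕ)} (h : fuse lk B E gs reps fz = true) :
    ∀ rc ∈ fz.map Prod.fst, Gd M lk reps (evc M lk gs rc) := by
  intro rc hrc
  obtain ⟨⟨rc, i, a, hc⟩, hz, rfl⟩ := List.mem_map.1 hrc
  have h1 := of_allL h _ hz
  obtain ⟨fr, h2, h3⟩ := dec_one (β := Bool) hg rc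
  rw [pr_eq, pr3_eq, h3] at h1
  obtain ⟨g, -, fh, h4, h5⟩ := decF_spec hE.top (fun fh => getK reps false (fun x => eqB B (fun q => fh (fr q))
    fun q => itr (lk x) a (fh q)) i) (nat_lit 200) hc 1 idf (mem_top _) PM.rf_one
  rw [h5] at h1
  rcases getK_cases reps false (fun x => eqB B (fun q => fh (fr q)) fun q => itr (lk x) a (fh q)) i with h6 | ⟨x, hx, h6⟩
  · rw [h6] at h1
    exact absurd h1 (by simp)
  rw [h6] at h1
  have h7 := hB.eq (h4.mul h2) (((hr x hx).rf.pow a).mul h4) h1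
  by_cases h8 : evc M lk gs rc = 1
  · exact Or.inl h8
  · exact Or.inr ⟨x, hx, h8, g⁻¹, a, by rw [mul_assoc, inv_inv, ← h7]; group⟩

theorem leafCov_spec {B : List ℕ} (hB : M.Base B) {p : ℕ} {gs : List (ℕ × ℕ × ℕ)} (hg : GsIn M lk gs) {cls reps : List ℕ}
    (hc : ∀ rc ∈ cls, Gd M lk reps (evc M lk gs rc)) (rdf : ℕ → ℕ) (y : G) (f : ℕ → ℕ) (s : ℕ) (hf : M.Rf y f)
    (h : leafCov lk B p gs cls rdf f s ≠ 0) : y ^ p = 1 → Gd M lk reps y := by
  intro hy
  unfold leafCov at h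
  rw [hB.eqB_of_eq (hf.pow p) (hy ▸ PM.rf_one), cnd_true] at h
  cases h1 : eqB B f idf
  swap
  · exact Or.inl (hB.eq hf PM.rf_one h1)
  rw [h1, cnd_false, frc_eq] at h
  rcases getK_cases cls (nat_lit 0) (fun rc => dec lk (fun fr => dec lk (fun fm =>
    cnd (eqB B (fun q => fm (f q)) fun q => fr (fm q)) (Nat.succ s) (nat_lit 0)) gs
      (Nat.shiftRight (rdf s) (nat_lit 10)) idf) gs rc idf) (Nat.land (rdf s) (nat_lit 1023)) with h2 | ⟨rc, hrc, h2⟩
  · exact absurd h2 h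
  obtain ⟨fr, h3, h4⟩ := dec_one (β := ℕ) hg rc
  obtain ⟨fm, h5, h6⟩ := dec_one (β := ℕ) hg (Nat.shiftRight (rdf s) (nat_lit 10))
  rw [h2, h4, h6] at h
  have h7 := hB.eq (h5.mul hf) (h3.mul h5) (cnd_ne h).1
  have h8 := (hc rc hrc).conj (evc M lk gs (Nat.shiftRight (rdf s) (nat_lit 10)))⁻¹
  rwa [inv_inv, mul_assoc, ← h7, inv_mul_cancel_left] at h8

/-- an element of order `p` is conjugate into a subgroup of index prime to `p` -/
theorem exists_conj_mem [Finite G] {P : Subgroup G} {p m d : ℕ} (hp : p.Prime) (hP : Nat.card P = m)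
    (hN : Nat.card G = m * d) (hd : ¬ p ∣ d) {c : G} (hc : orderOf c = p) : ∃ g : G, g⁻¹ * c * g ∈ P := by
  have _ : Fact p.Prime := ⟨hp⟩
  have h1 : IsPGroup p (zpowers c) := IsPGroup.of_card (n := 1) (by rw [Nat.card_zpowers, hc, pow_one])
  have h2 : Nat.card (G ⧸ P) = d := by
    have h3 := P.card_mul_index
    have h4 : 0 < m := hP ▸ Nat.card_pos
    rw [hP, hN] at h3
    exact Nat.eq_of_mul_eq_mul_left h4 h3
  obtain ⟨q, hq⟩ := h1.nonempty_fixed_point_of_prime_not_dvd_card (G ⧸ P) (h2 ▸ hd)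
  obtain ⟨g, rfl⟩ := QuotientGroup.mk_surjective q
  have h5 : ((c * g : G) : G ⧸ P) = (g : G ⧸ P) := hq ⟨c, mem_zpowers c⟩
  have h6 := QuotientGroup.eq.1 h5.symm
  exact ⟨g, by rwa [mul_assoc]⟩

/-- every element of order `p` lies in a listed class -/
def Cov (M : PM G n) (lk : ℕ → ℕ → ℕ) (p : ℕ) (reps : List ℕ) : Prop :=
  ∀ c : G, orderOf c = p → ∃ t ∈ reps, c ∈ Cl (M.el lk t)

theorem cov_of_nf [Finite G] {gs : List (ℕ × ℕ × ℕ)} (hpc : PCok M lk gs) {p m d : ℕ} (hp : p.Prime)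
    (hm : m ≤ Nat.card (Mg M lk gs)) (hm' : prodO gs = m) (hN : Nat.card G = m * d) (hd : ¬ p ∣ d) {reps : List ℕ}
    (h : ∀ y, NF M lk gs y → y ^ p = 1 → Gd M lk reps y) : Cov M lk p reps := by
  intro c hc
  obtain ⟨g, hg⟩ := exists_conj_mem hp (le_antisymm (hm' ▸ hpc.card_le) hm) hN hd hc
  have h1 := (h _ (hpc.nf _ hg) (by
    have := conj_pow (a := g⁻¹) (b := c) (i := p)
    rw [inv_inv] at this
    rw [this, ← hc, pow_orderOf_eq_one]
    simp)).conj g
  rw [show g * (g⁻¹ * c * g) * g⁻¹ = c by group] at h1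
  rcases h1 with rfl | h1
  · rw [orderOf_one] at hc
    exact absurd (hc ▸ hp) Nat.not_prime_one
  · exact h1

/-- the enumeration of a coset of a final segment -/
noncomputable def covChk (lk : ℕ → ℕ → ℕ) (B : List ℕ) (p : ℕ) (A R gs : List (ℕ × ℕ × ℕ)) (cls : List ℕ)
    (rdf : ℕ → ℕ) (c : ℕ) : Bool :=
  Nat.blt (nat_lit 0) (dec lk (fun f => enum lk (leafCov lk B p gs cls rdf) R f (nat_lit 1)) A c idf)

theorem cov_of_chk [Finite G] {B : List ℕ} (hB : M.Base B) {A R gs : List (ℕ × ℕ × ℕ)} (hAR : A ++ R = gs)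
    (hg : GsIn M lk gs) (hpc : PCok M lk gs) {p m d : ℕ} (hp : p.Prime) (hm : m ≤ Nat.card (Mg M lk gs))
    (hm' : prodO gs = m) (hN : Nat.card G = m * d) (hd : ¬ p ∣ d) {cls reps : List ℕ}
    (hc : ∀ rc ∈ cls, Gd M lk reps (evc M lk gs rc)) {a : ℕ} (ha : prodO A = a)
    (h : ∀ c < a, ∃ rdf, covChk lk B p A R gs cls rdf c = true) : Cov M lk p reps := by
  refine cov_of_nf hpc hp hm hm' hN hd fun y hy => ?_
  rw [← hAR] at hy
  obtain ⟨r, c, h1, h2, -, rfl⟩ := hy.append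
  obtain ⟨rdf, h3⟩ := h c (ha ▸ h2)
  have hA : GsIn M lk A := fun g hg' => hg g (hAR ▸ List.mem_append_left _ hg')
  have hR : GsIn M lk R := fun g hg' => hg g (hAR ▸ List.mem_append_right _ hg')
  obtain ⟨f, h4, h5⟩ := dec_one (β := ℕ) hA c
  unfold covChk at h3
  rw [h5] at h3
  exact enum_spec (leafCov_spec hB hg hc rdf) hR _ f (nat_lit 1) h4 (ne_of_blt h3) r h1

/-- a Sylow subgroup of prime order -/
theorem cov_of_prime [Finite G] {t p d : ℕ} (hp : p.Prime) (ht : orderOf (M.el lk t) = p) (hN : Nat.card G = p * d)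
    (hd : ¬ p ∣ d) : Cov M lk p [t] := by
  intro c hc
  obtain ⟨g, hg⟩ := exists_conj_mem (P := zpowers (M.el lk t)) hp (by rw [Nat.card_zpowers, ht]) hN hd hc
  rw [mem_zpowers_iff_mem_range_orderOf, Finset.mem_image] at hg
  obtain ⟨a, -, ha⟩ := hg
  refine ⟨t, by simp, ?_, g, a, by rw [ha]; group⟩
  rintro rfl
  rw [orderOf_one] at hc
  exact absurd (hc ▸ hp) Nat.not_prime_one

end pcspec

end Cfsg.Agent.SB.Spor
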