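import Cfsg.Agent.SB.SporL.LP
import Cfsg.Agent.TAB.He.Main
import Cfsg.Agent.S1695
import Cfsg.Agent.S2075

/-!
# S5765, the row of `He` (helper63)

From the rational character table: a subgroup without elements of order 17 has order at most 1840525, a solvable
subgroup with an element of order 17 has order dividing `2 ^ 10 * 17`.
-/

set_option autoImplicit false
set_option maxRecDepth 100000

namespace Cfsg.Agent.SB.Spor.He

open Cfsg Cfsg.Agent.TAB Cfsg.Agent.TAB.He Cfsg.Agent.TAB.Eng Cfsg.Agent.TAB.Use Cfsg.Agent.TAB.Co Cfsg.Agent.H447.CTab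
open Cfsg.Agent.H825.HT.He7 Cfsg.Agent.H300.Cls Cfsg.Agent.SB.SporL

/-- the table with rational types -/
theorem tab : ∃ T : TD Cfsg.Spor.He D, T.Mass ∧ ON.Rat T ∧ Tab T RR := by
  have := finite
  have h1 : E.Ok CT := ⟨X_ord, fun _ => rfl, fun v hv => by
    obtain ⟨w, hw, rfl⟩ := List.mem_map.1 hv
    refine ⟨_, gc_seeds w hw, fun i => ?_⟩
    rw [onX, List.getD_eq_getElem _ _ (by rw [List.length_map]; exact i.2), List.getElem_map,
      ← List.getD_eq_getElem _ 0, ← ff_X]
    rfl⟩
  obtain ⟨T, hm, hT⟩ := Sm1.ofTab (D := D) h1 KFacts.He.Classes.card_he (PL := [2, 3, 5, 7, 11, 13, 17, 19, 23])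
    (X := [(9, 2), (10, 2), (11, 2), (17, 2)]) (by decide +kernel) fun i p h => by
      have h2 : p = 2 ∧ Q2.getD (F25.getD i 0) 0 = D.pwf (F25.getD i 0) 2 := by
        simp only [List.mem_cons, Prod.mk.injEq, List.not_mem_nil, or_false] at h
        rcases h with ⟨h, rfl⟩ | ⟨h, rfl⟩ | ⟨h, rfl⟩ | ⟨h, rfl⟩ <;> rw [h] <;> exact ⟨rfl, rfl⟩
      rw [h2.1]
      exact (ff_cl _).trans ((ff_sq _).trans ((congrArg (Q2.getD · 0) (ff_X i)).trans h2.2))
  have h2 : ∀ g, T.ty g = ff g := fun g => (hT g).trans (ff_cl g)
  have h3 : ON.Rat T := fun g h e => by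
    obtain ⟨m, -, h4⟩ := ff_gal g h (by rwa [← h2, ← h2])
    exact ⟨m, h4⟩
  have h4 : Virt T (nth (List.replicate 25 1)) := (Virt.const 1).congr (by decide +kernel)
  have h5 : ∀ v ∈ seeds.take 3, Virt T (nth v) := fun v hv => by
    have h5 : (fun g => (nth v (T.ty g) : ℂ)) = tv ff v := funext fun g => by rw [nth_eq, h2]; rfl
    rw [Virt, h5]
    exact gc_seeds v hv
  have h6 : ∀ v ∈ seeds.drop 3, Virt T (nth v) :=
    List.forall_mem_cons.2 ⟨ON.virt_coad (k := 2) hm h3 h4 (by decide +kernel),
      List.forall_mem_singleton.2 (ON.virt_coad (k := 4) hm h3 h4 (by decide +kernel))⟩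
  have h7 := Sm1.virt_okC hm.1 (List.take_append_drop 3 seeds ▸ List.forall_mem_append.2 ⟨h5, h6⟩) ok_A
  have h8 := h7 u List.mem_cons_self
  have h9 := virt_half hm h8 (fun p hp => h7 _ (List.mem_cons_of_mem _ (List.of_mem_zip hp).2)) ok_H
  have h10 : Virt T (nth w2) := (h8.add (h9.smul (-1))).congr (by decide +kernel)
  exact ⟨T, hm, h3, Sm1.tab_of_cls hm (fun r hr => List.forall_mem_append.2
    ⟨fun r hr => h7 r (List.mem_cons_of_mem _ (List.mem_cons_of_mem _ hr)),
      List.forall_mem_cons.2 ⟨h9, List.forall_mem_singleton.2 h10⟩⟩ _ (List.of_mem_zip hr).2) ok_R classes⟩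

/-- the certificate for the order -/
def cS : List (ℕ × ℕ) :=
  [(263158, 2), (1105263, 4), (1894737, 5), (1894737, 6), (2894737, 7), (4789474, 8), (5210526, 9), (7052632, 10),
    (8315789, 11), (8105263, 12), (9578947, 13), (10421053, 14), (631579, 17), (736842, 18), (3631579, 19),
    (3631579, 20), (5684211, 21), (8500000, 22), (11315789, 23), (3000000, 24)]

/-- the certificates for the types -/
def cT : List (ℕ × ℕ × ℕ × ℕ × List (ℕ × ℕ)) :=
  [(1, 1810, 1000000000, 503944, [(884958, 4), (1682773, 6), (1009664, 7), (2692437, 8), (1515397, 9), (3577396, 10),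
    (2564727, 11), (3702702, 12), (5216296, 13), (6101856, 14), (293584, 16), (442479, 17), (62353, 18),
    (1408571, 19), (861971, 20), (2712420, 21), (4711765, 22), (5025632, 23), (275704, 24)]),
    (2, 3928, 1000000000, 120206, [(1407967, 3), (1407967, 4), (4143773, 5), (5620421, 6), (5940934, 7),
    (10016026, 8), (9644002, 9), (10016026, 10), (15968407, 11), (15144231, 12), (19660027, 13), (20152244, 14),
    (457875, 16), (2266484, 18), (7326007, 19), (7783883, 20), (12740385, 21), (19780220, 22), (20724588, 23),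
    (4756181, 24)]), (3, 11777, 1000000000, 1041781, [(9523810, 4), (10416667, 5), (11011905, 6), (16071429, 7),
    (25892857, 8), (27529762, 9), (35416667, 10), (35416667, 11), (45833333, 12), (46279762, 13), (55208333, 14),
    (297619, 16), (297619, 18), (18452381, 19), (18750000, 20), (27678571, 21), (56250000, 22), (53720238, 23),
    (18303571, 24)]), (4, 21612, 1000000000, 6536204, [(6804317, 4), (11195281, 7), (3508301, 8), (41082881, 9),
    (18580590, 10), (22479945, 11), (40892941, 12), (50937409, 13), (69897879, 14), (3402159, 17), (2195482, 18),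
    (10966235, 19), (28429532, 20), (30474179, 21), (51127349, 22), (64328171, 23), (5346249, 24)]),
    (8, 68431, 1000000000, 18817260, [(7296467, 3), (7296467, 4), (49923195, 5), (67972350, 6), (18049155, 7),
    (57219662, 8), (99078341, 9), (140552995, 10), (105222734, 11), (174731183, 12), (182795699, 13),
    (190092166, 14), (5376344, 18), (83717358, 19), (57219662, 20), (91013825, 21), (175115207, 22),
    (198540707, 23), (40322581, 24)]), (10, 50309, 1000000000, 9877304, [(20368304, 2), (22321429, 4),
    (27790179, 5), (27790179, 6), (57142857, 7), (84933036, 8), (96986607, 9), (107254464, 10), (79668899, 11),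
    (139453125, 12), (186104911, 13), (188058036, 14), (2957589, 15), (8203125, 17), (20368304, 18), (68750000, 19),
    (59654018, 20), (94029018, 21), (171428571, 22), (185398065, 23), (41164435, 24)]),
    (11, 32279, 1000000000, 7563044, [(12815126, 1), (630252, 2), (28571429, 5), (28571429, 6), (21008403, 7),
    (49579832, 8), (56092437, 9), (62394958, 10), (67647059, 11), (77941176, 12), (100000000, 13), (99369748, 14),
    (2941176, 17), (4621849, 18), (39285714, 19), (25630252, 20), (47268908, 21), (103781513, 22), (110714286, 23),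
    (15756303, 24)]), (12, 134158, 1000000000, 26339397, [(6696429, 2), (107142857, 4), (85714286, 5),
    (85714286, 6), (57142857, 7), (142857143, 8), (294642857, 9), (250000000, 10), (250000000, 11), (371875000, 12),
    (448660714, 13), (537500000, 14), (31696429, 15), (5803571, 16), (21875000, 17), (6696429, 18), (141517857, 19),
    (200892857, 20), (274553571, 21), (457142857, 22), (504464286, 23), (147321429, 24)]),
    (19, 343034, 1000000000, 130769238, [(103296703, 3), (103296703, 4), (127472527, 5), (305494505, 6),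
    (178021978, 7), (230769231, 8), (302197802, 9), (230769231, 10), (230769231, 11), (476923077, 12),
    (532967033, 13), (592307692, 14), (21978022, 16), (37362637, 18), (208791209, 19), (230769231, 20),
    (290109890, 21), (663736264, 22), (405494505, 23), (174725275, 24)])]

theorem ok_S : chkS D (RR.rel.map Prod.snd) [17] cS 999987 1840525 = true := by decide +kernel

theorem ok_T : allL (chkT D (RR.rel.map Prod.snd) [] 1840525) cT = true := by decide +kernel

theorem ok_F : fin4 D 1000000 1840525 cT = true := by decide +kernel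

variable {G : Type*} [Group G] [Finite G] {T : TD G D}

theorem card_le (H : Hyp T (RR.rel.map Prod.snd)) {S : Subgroup G} (hS : Group.IsSolvable S) :
    Nat.card S ≤ 1840525 := by
  by_cases h : 17 ∣ Nat.card S
  · have p17 : Nat.Prime 17 := by norm_num
    have h3 := fun h' => H.excl hS 2 8780800 Nat.prime_three p17 (by decide +kernel) h' h
    have h5 := fun h' => H.excl hS 1 9483264 Nat.prime_five p17 (by decide +kernel) h' h
    have h7 := fun h' => H.excl hS 2 691200 Nat.prime_seven p17 (by decide +kernel) h' h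
    have h0 : Nat.card S ∣ 3 ^ 3 * (5 ^ 2 * (7 ^ 3 * 17408)) := by
      have := Subgroup.card_subgroup_dvd_card S
      rwa [H.mass.1] at this
    have h1 := (((Nat.Prime.coprime_iff_not_dvd Nat.prime_three).2 h3).symm.pow_right 3).dvd_of_dvd_mul_left h0
    have h2 := (((Nat.Prime.coprime_iff_not_dvd Nat.prime_five).2 h5).symm.pow_right 2).dvd_of_dvd_mul_left h1
    have h4 := (((Nat.Prime.coprime_iff_not_dvd Nat.prime_seven).2 h7).symm.pow_right 3).dvd_of_dvd_mul_left h2
    exact (Nat.le_of_dvd (by norm_num) h4).trans (by norm_num)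
  · exact H.size ((Ex.nil S).cons h) ok_S

end Cfsg.Agent.SB.Spor.He

namespace Cfsg.Agent.SB.Spor

open Cfsg Cfsg.Agent.SB.SporL

/-- **The row of `He`.** -/
theorem row_He (K : Type*) [Group K] (h : Cfsg.Spor.IsoHe K) : Row K := by
  obtain ⟨e⟩ := h
  have := TAB.He.finite
  have := S1695.result.1
  obtain ⟨T, hm, hr, hT⟩ := He.tab
  have H := hyp_of hm hT (by decide +kernel) fun g h _ => hr g h
  refine Row.of_equiv e (row_of_four (nc_of ?_) S2075.result.le fun S hS =>
    H.four (Ex.nil S) (He.card_le H hS) He.ok_T He.ok_F)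
  rw [hm.1]
  exact fun hp => absurd (hp.eq_two_or_odd'.resolve_left (by decide)) (by decide)

end Cfsg.Agent.SB.Spor
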