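import Cfsg.Agent.SB.Spor.Glue

/-!
# S5765, sporadic rows: densities relative to an anchor (helper63)

For small classes: fix `x ∈ S` and bound the density of `S` on every orbit of `N(⟨x⟩)` on the class of `x`.
-/

set_option autoImplicit false

namespace Cfsg.Agent.SB.Spor

open Subgroup Cfsg
open scoped Classical

variable {G : Type*} [Group G]

/-- the normaliser of `⟨x⟩` -/
abbrev Nx (x : G) : Subgroup G := normalizer (zpowers x : Set G)

theorem mem_cj_of_Nx {x h : G} (hh : h ∈ Nx x) {S : Subgroup G} (hx : x ∈ S) : x ∈ cj S h := by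
  have h1 := (mem_normalizer_iff.1 (inv_mem hh) x).1 (mem_zpowers x)
  rw [inv_inv] at h1
  exact mem_cj.2 (zpowers_le.2 hx h1)

/-- number of `h ∈ H` with `h⁻¹ c h ∈ S` -/
noncomputable def hr (H S : Subgroup G) (c : G) : ℕ := Nat.card {h : H // (h : G)⁻¹ * c * h ∈ S}

theorem hr_conj {H : Subgroup G} (S : Subgroup G) (c : G) {h : G} (hh : h ∈ H) : hr H S (h * c * h⁻¹) = hr H S c :=
  Nat.card_congr ⟨fun x => ⟨⟨h, hh⟩⁻¹ * x.1, by simpa [mul_assoc] using x.2⟩,
    fun x => ⟨⟨h, hh⟩ * x.1, by simpa [mul_assoc] using x.2⟩, fun _ => by simp, fun _ => by simp⟩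

theorem hr_le (H S : Subgroup G) [Finite G] (c : G) : hr H S c ≤ Nat.card H :=
  Nat.card_le_card_of_injective Subtype.val Subtype.val_injective

theorem sum_hr_few [Finite G] {x : G} {K : List G} {j : ℕ} (h : Few [x] K j) {S : Subgroup G} (hS : Group.IsSolvable S)
    (hx : x ∈ S) : (K.map (hr (Nx x) S)).sum ≤ j * Nat.card (Nx x) := by
  have _ := Fintype.ofFinite (Nx x)
  have h1 : ∀ L : List G, (L.map (hr (Nx x) S)).sum = ∑ u : Nx x, L.countP fun a => decide (a ∈ cj S u) := by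
    intro L
    induction L with
    | nil => simp
    | cons a L ih =>
      simp only [List.map_cons, List.sum_cons, List.countP_cons, Finset.sum_add_distrib, decide_eq_true_eq, ih]
      rw [add_comm, hr, Nat.card_eq_fintype_card, Fintype.card_subtype, Finset.card_filter]
      simp [mem_cj]
  rw [h1, Nat.card_eq_fintype_card, mul_comm, ← Finset.card_univ, ← smul_eq_mul]
  exact Finset.sum_le_card_nsmul _ _ _ fun u _ => h _ (cj_solvable hS _) (by simpa using mem_cj_of_Nx u.2 hx)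

/-- the double coset of `γ` -/
def Ty (x γ u : G) : Prop := ∃ h ∈ Nx x, ∃ h' ∈ Nx x, u = h * γ * h'

theorem Ty.hr_le [Finite G] {x γ u : G} (h : Ty x γ u) (S : Subgroup G) :
    hr (Nx x) S (u⁻¹ * x * u) ≤ hr (Nx x) S (γ⁻¹ * x * γ) := by
  obtain ⟨h1, a1, h2, a2, rfl⟩ := h
  rw [← hr_conj S _ a2]
  refine Nat.card_le_card_of_injective (fun z => ⟨z.1, ?_⟩) fun a c hac => Subtype.ext (congrArg Subtype.val hac :)
  have b1 : x ∈ cj S (h1 * γ * z.1) := mem_cj.2 (by simpa [mul_assoc] using z.2)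
  simpa [mem_cj, mul_assoc] using mem_cj_of_Nx (inv_mem a1) b1

theorem card_Ty_le [Finite G] (x γ : G) : Nat.card {u // Ty x γ u} * Nat.card ↥(Nx x ⊓ Nx (γ⁻¹ * x * γ)) ≤
    Nat.card (Nx x) * Nat.card (Nx x) := by
  choose f f1 g g1 e using fun u : {u // Ty x γ u} => u.2
  rw [← Nat.card_prod, ← Nat.card_prod]
  have h1 : ∀ s ∈ Nx (γ⁻¹ * x * γ), γ * s * γ⁻¹ ∈ Nx x := fun s hs => by
    apply mem_normalizer_fintype
    rintro _ ⟨k, rfl⟩
    obtain ⟨l, hl⟩ := (mem_normalizer_iff.1 hs _).1 (zpow_mem_zpowers (γ⁻¹ * x * γ) k)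
    have e1 : ∀ m : ℤ, (γ⁻¹ * x * γ) ^ m = γ⁻¹ * x ^ m * γ := fun m => by simpa using conj_zpow (a := γ⁻¹) (b := x) (i := m)
    refine ⟨l, ?_⟩
    simp only [e1] at hl
    calc x ^ l = γ * (γ⁻¹ * x ^ l * γ) * γ⁻¹ := by group
      _ = _ := by rw [hl]; group
  refine Nat.card_le_card_of_injective (fun z => (⟨f z.1 * (γ * z.2.1 * γ⁻¹), mul_mem (f1 _) (h1 _ z.2.2.2)⟩,
    ⟨z.2.1⁻¹ * g z.1, mul_mem (inv_mem z.2.2.1) (g1 _)⟩)) fun a c hac => ?_
  have e1 : f a.1 * (γ * a.2.1 * γ⁻¹) = f c.1 * (γ * c.2.1 * γ⁻¹) := congrArg (fun z => z.1.1) hac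
  have e2 : a.2.1⁻¹ * g a.1 = c.2.1⁻¹ * g c.1 := congrArg (fun z => z.2.1) hac
  have e3 : a.1 = c.1 := Subtype.ext (by
    calc a.1.1 = f a.1 * (γ * a.2.1 * γ⁻¹) * γ * (a.2.1⁻¹ * g a.1) := by rw [e a.1]; group
      _ = _ := by rw [e1, e2, e c.1]; group)
  rw [e3] at e2
  exact Prod.ext e3 (Subtype.ext (inv_injective (mul_right_cancel e2)))

/-- numerical data of a double coset: number of chosen elements, lower bound for the stabiliser, excess -/
structure Ra where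
  k : ℕ
  σ : ℕ
  e : ℕ

/-- the double coset of `γ` and the list `Ks` have the data `r` -/
structure Ra.Ok (x : G) (ν N L : ℕ) (r : Ra) (γ : G) (Ks : List G) : Prop where
  pos : 0 < r.σ
  stab : r.σ ≤ Nat.card ↥(Nx x ⊓ Nx (γ⁻¹ * x * γ))
  len : r.k ≤ Ks.length
  mem : ∀ a ∈ Ks, ∃ h ∈ Nx x, a = h * (γ⁻¹ * x * γ) * h⁻¹
  num : ν * ν * L ≤ r.σ * (r.k * N + r.e * L)

theorem sum_hr_le [Finite G] {x : G} {ν N L : ℕ} (hν : Nat.card (Nx x) ≤ ν) (S : Subgroup G)
    {rs : List Ra} {ds : List (G × List G)} (h : List.Forall₂ (fun r d => Ra.Ok x ν N L r d.1 d.2) rs ds) :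
    ∀ A : Finset G, (∀ u ∈ A, ∃ d ∈ ds, Ty x d.1 u) → L * ∑ u ∈ A, hr (Nx x) S (u⁻¹ * x * u) ≤
      N * ((ds.flatMap Prod.snd).map (hr (Nx x) S)).sum + L * (rs.map Ra.e).sum * Nat.card (Nx x) := by
  induction h with
  | nil =>
    intro A hA
    rw [Finset.eq_empty_of_forall_notMem (s := A) fun g hg => by simpa using hA g hg]
    simp
  | @cons r d rs ds h1 _ ih =>
    intro A hA
    have a1 := ih (A.filter fun g => ¬ Ty x d.1 g) fun g hg => by
      obtain ⟨c, hc1, hc2⟩ := hA g (Finset.mem_filter.1 hg).1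
      rcases List.mem_cons.1 hc1 with rfl | hc1
      exacts [absurd hc2 (Finset.mem_filter.1 hg).2, ⟨c, hc1, hc2⟩]
    set π := hr (Nx x) S (d.1⁻¹ * x * d.1) with hπ
    have a2 : ∑ u ∈ A.filter (Ty x d.1), hr (Nx x) S (u⁻¹ * x * u) ≤ (A.filter (Ty x d.1)).card * π :=
      Finset.sum_le_card_nsmul _ _ _ fun g hg => (Finset.mem_filter.1 hg).2.hr_le S
    have c1 : (A.filter (Ty x d.1)).card ≤ Nat.card {g // Ty x d.1 g} := by
      rw [← Nat.card_eq_finsetCard]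
      exact Nat.card_le_card_of_injective (fun g => ⟨g.1, (Finset.mem_filter.1 g.2).2⟩)
        fun a c hac => Subtype.ext (congrArg Subtype.val hac :)
    have c2 := (Nat.mul_le_mul c1 h1.stab).trans ((card_Ty_le x d.1).trans (Nat.mul_le_mul hν hν))
    have c3 : (A.filter (Ty x d.1)).card * L ≤ r.k * N + r.e * L :=
      Nat.le_of_mul_le_mul_left (by have := (Nat.mul_le_mul_right L c2).trans h1.num; nlinarith) h1.pos
    have c4 : r.k * π ≤ (d.2.map (hr (Nx x) S)).sum := by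
      refine (Nat.mul_le_mul_right _ h1.len).trans ?_
      rw [← List.length_map (hr (Nx x) S), ← smul_eq_mul]
      refine List.card_nsmul_le_sum _ _ fun y hy => ?_
      obtain ⟨a, ha, rfl⟩ := List.mem_map.1 hy
      obtain ⟨u, hu, rfl⟩ := h1.mem a ha
      exact (hr_conj S _ hu).ge
    have c5 : π ≤ Nat.card (Nx x) := hr_le _ _ _
    rw [← Finset.sum_filter_add_sum_filter_not A (Ty x d.1), List.flatMap_cons, List.map_append, List.sum_append,
      List.map_cons, List.sum_cons]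
    have c6 := Nat.mul_le_mul_left L a2
    have c7 := Nat.mul_le_mul_right π c3
    have c8 := Nat.mul_le_mul_left N c4
    have c9 := Nat.mul_le_mul_left (r.e * L) c5
    nlinarith

/-- **the anchor criterion** -/
theorem dn_of_anchor [Finite G] {x : G} {ν N L j J K : ℕ} (hN : Nat.card G = N) (hν : Nat.card (Nx x) ≤ ν)
    {rs : List Ra} {ds : List (G × List G)} (h : List.Forall₂ (fun r d => Ra.Ok x ν N L r d.1 d.2) rs ds)
    (hc' : ∀ u, ∃ d ∈ ds, Ty x d.1 u) (hf : Few [x] (ds.flatMap Prod.snd) j)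
    (hnum : 0 < L ∧ (N * j + L * (rs.map Ra.e).sum) * K ≤ J * N * L) : Dn x J K := by
  intro S hS
  have _ := Fintype.ofFinite G
  rcases isEmpty_or_nonempty {g : G // g⁻¹ * x * g ∈ S} with e | ⟨⟨g0, hg0⟩⟩
  · simp [hc]
  have h2 := sum_hr_le hν (cj S g0) h Finset.univ fun g _ => hc' g
  have h3 : hc S x * Nat.card (Nx x) ≤ ∑ g : G, hr (Nx x) (cj S g0) (g⁻¹ * x * g) := by
    unfold hr
    rw [← Nat.card_sigma, hc, ← Nat.card_prod]
    refine Nat.card_le_card_of_injective (fun z => ⟨z.1.1 * g0⁻¹ * (z.2 : G)⁻¹, z.2, mem_cj.2 (by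
      simpa [mul_assoc] using z.1.2)⟩) fun a c hac => ?_
    have e1 : a.2 = c.2 := congrArg (fun z : (Σ g : G, {h : Nx x // (h : G)⁻¹ * (g⁻¹ * x * g) * h ∈ cj S g0}) => z.2.1) hac
    have e2 : a.1.1 * g0⁻¹ * (a.2 : G)⁻¹ = c.1.1 * g0⁻¹ * (c.2 : G)⁻¹ := congrArg Sigma.fst hac
    rw [e1] at e2
    exact Prod.ext (Subtype.ext (mul_right_cancel (mul_right_cancel e2))) e1
  have h4 := Nat.mul_le_mul_left N (sum_hr_few hf (cj_solvable hS g0) (mem_cj.2 hg0))
  have h5 : L * hc S x ≤ N * j + L * (rs.map Ra.e).sum :=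
    Nat.le_of_mul_le_mul_right (by have := Nat.mul_le_mul_left L h3; nlinarith) (Nat.card_pos (α := Nx x))
  rw [hN]
  refine Nat.le_of_mul_le_mul_left ?_ hnum.1
  have := Nat.mul_le_mul_right K h5
  nlinarith [hnum.2]

end Cfsg.Agent.SB.Spor
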