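import Cfsg.Agent.SB.Spor.Anc

/-!
# S5765, sporadic rows: the certificate engine, part 4 (helper63)

Orbits of `N(⟨x⟩)` on the class of `x`, upper bound for the centraliser, densities relative to `x`.
-/

set_option autoImplicit false

namespace Cfsg.Agent.SB.Spor

open Subgroup Cfsg
open scoped Classical

variable {G : Type*} [Group G] {n : ℕ} {M : PM G n} {lk : ℕ → ℕ → ℕ}

/-! ### tables in a subgroup -/

/-- all tables describe elements of `L` -/
def SubIn (M : PM G n) (lk : ℕ → ℕ → ℕ) (L : Subgroup G) (E : List ℕ) : Prop := ∀ t ∈ E, ∃ g ∈ L, M.Rf g (lk t)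

theorem SubIn.append {L : Subgroup G} {E E' : List ℕ} (h1 : SubIn M lk L E) (h2 : SubIn M lk L E') :
    SubIn M lk L (E ++ E') := fun s hs => (List.mem_append.1 hs).elim (h1 s) (h2 s)

theorem SubIn.all {L : Subgroup G} {E : List ℕ} (h : SubIn M lk L E) : AllIn M lk E := fun t ht =>
  let ⟨g, _, h1⟩ := h t ht; ⟨g, h1⟩

/-- the group generated by a list of tables -/
def Gn (M : PM G n) (lk : ℕ → ℕ → ℕ) (E : List ℕ) : Subgroup G := closure {a | ∃ t ∈ E, a = M.el lk t}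

theorem AllIn.gn {E : List ℕ} (h : AllIn M lk E) : SubIn M lk (Gn M lk E) E := fun t ht =>
  ⟨_, subset_closure ⟨t, ht, rfl⟩, (h t ht).rf⟩

theorem slp_sub {mk : (ℕ → ℕ) → ℕ} {ver : (ℕ → ℕ) → ℕ → (ℕ → ℕ) → Bool} (hT : M.Tab lk mk ver) {L : Subgroup G}
    (steps : List (ℕ × ℕ × ℕ)) :
    ∀ E, SubIn M lk L E → slp lk ver steps E = true → SubIn M lk L (steps.map fun st => st.2.1) := by
  induction steps with
  | nil => exact fun _ _ _ _ h => absurd h (by simp)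
  | cons st steps ih =>
    obtain ⟨u, s, v⟩ := st
    intro E hE h
    have e : slp lk ver ((u, s, v) :: steps) E = pr (u, s, v) fun u r => pr r fun s v => decF lk E (fun fu => decF lk E
      (fun fv => cnd (ver fu s fv) (slp lk ver steps (s :: E)) false) (nat_lit 200) v idf) (nat_lit 200) u idf := rfl
    obtain ⟨a, ha, fa, h1, h2⟩ := decF_spec hE (fun fu => decF lk E
      (fun fv => cnd (ver fu s fv) (slp lk ver steps (s :: E)) false) (nat_lit 200) v idf) (nat_lit 200) u 1 idf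
      (one_mem _) PM.rf_one
    obtain ⟨b, hb, fb, h3, h4⟩ := decF_spec hE
      (fun fv => cnd (ver fa s fv) (slp lk ver steps (s :: E)) false) (nat_lit 200) v 1 idf (one_mem _) PM.rf_one
    rw [e, pr_eq, pr_eq, h2, h4] at h
    have h5 := cnd_and h
    have h6 : SubIn M lk L [s] := fa_cons ⟨_, mul_mem (inv_mem ha) hb, hT.ver_spec a b fa fb s h1 h3 h5.1⟩ fa_nil
    exact h6.append (ih _ (h6.append hE) h5.2)

theorem top_of_chain [Finite G] {L : Subgroup G} {E : List ℕ} (hE : SubIn M lk L E) {N : ℕ} (hN : Nat.card G = N)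
    {levels : List (ℕ × List ℕ)} (h : Nat.ble N (chain lk E n (fun _ => true) levels []) = true) : L = ⊤ :=
  eq_top_of_le_card L (hN ▸ chain_le hE (fun _ hg _ _ _ => hg) h)

theorem getK_det {α β : Type} (L : List α) (i : ℕ) :
    (∀ (d : β) k, getK L d k i = d) ∨ ∃ a ∈ L, ∀ (d : β) k, getK L d k i = k a := by
  induction L generalizing i with
  | nil => exact Or.inl fun _ _ => rfl
  | cons a L ih =>
    cases i with
    | zero => exact Or.inr ⟨a, List.mem_cons_self, fun _ _ => rfl⟩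
    | succ m =>
      rcases ih m with h | ⟨b, hb, h⟩
      · exact Or.inl h
      · exact Or.inr ⟨b, List.mem_cons_of_mem _ hb, h⟩

theorem decF_det {E : List ℕ} {S : Subgroup G} (hE : SubIn M lk S E) (fuel : ℕ) : ∀ (c : ℕ) (g : G) (f : ℕ → ℕ),
    g ∈ S → M.Rf g f → ∃ g' ∈ S, ∃ f', M.Rf g' f' ∧ ∀ k : (ℕ → ℕ) → ℕ, decF lk E k fuel c f = k f' := by
  induction fuel with
  | zero => exact fun c g f hg h => ⟨g, hg, f, h, fun _ => rfl⟩
  | succ j ih =>
    intro c g f hg h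
    cases c with
    | zero => exact ⟨g, hg, f, h, fun _ => rfl⟩
    | succ m =>
      have e : ∀ k : (ℕ → ℕ) → ℕ, decF lk E k (j + 1) (m + 1) f = getK E (k f) (fun t => decF lk E k j
          (Nat.shiftRight (Nat.succ m) 8) fun q => lk t (f q)) (Nat.land m 255) := fun k =>
        frc_eq (Nat.shiftRight (Nat.succ m) 8) fun c' =>
          getK E (k f) (fun t => decF lk E k j c' fun q => lk t (f q)) (Nat.land m 255)
      rcases getK_det (β := ℕ) E (Nat.land m 255) with h3 | ⟨t, ht, h3⟩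
      · exact ⟨g, hg, f, h, fun k => (e k).trans (h3 _ _)⟩
      · obtain ⟨a, ha, h4⟩ := hE t ht
        obtain ⟨g', hg', f', h5, h6⟩ := ih (Nat.shiftRight (Nat.succ m) 8) _ _ (mul_mem ha hg) (h4.mul h)
        exact ⟨g', hg', f', h5, fun k => ((e k).trans (h3 _ _)).trans (h6 k)⟩

/-! ### the orbits on the class -/

/-- run `body` on an interval -/
noncomputable def rng (body : ℕ → ℕ → ℕ) (cnt : ℕ) : ℕ → ℕ → ℕ :=
  Nat.rec (fun _ s => s) (fun _ ih i s => nz (body i s) fun s' => frc (Nat.succ i) fun i' => ih i' s') cnt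

theorem rng_spec {body : ℕ → ℕ → ℕ} (cnt : ℕ) : ∀ lo s, rng body cnt lo s ≠ 0 →
    ∀ i, lo ≤ i → i < lo + cnt → ∃ s, body i s ≠ 0 := by
  induction cnt with
  | zero => intro lo s _ i h1 h2; omega
  | succ cnt ih =>
    intro lo s h i h1 h2
    obtain ⟨h3, h4⟩ := nz_ne (v := body lo s) (k := fun s' => frc (Nat.succ lo) fun i' => rng body cnt i' s') h
    rw [frc_eq] at h4
    rcases Nat.eq_or_lt_of_le h1 with rfl | h5
    exacts [⟨s, h3⟩, ih _ _ h4 i h5 (by omega)]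

/-- `g t c = w g t'` -/
noncomputable def covC (lk : ℕ → ℕ → ℕ) (B E W : List ℕ) (g : ℕ) (tf : ℕ → ℕ) (φ : ℕ) (rdf : ℕ → ℕ) (ft : ℕ → ℕ)
    (c s : ℕ) : ℕ :=
  frc (rdf s) fun sym => frc (Nat.land sym (nat_lit 65535)) fun i' => cnd (Nat.blt i' φ)
    (decF lk E (fun ft' => decF lk W (fun fw => cnd (eqB B (fun q => lk g (ft (lk c q))) fun q => fw (lk g (ft' q)))
      (Nat.succ s) (nat_lit 0)) (nat_lit 200) (Nat.shiftRight sym (nat_lit 16)) idf) (nat_lit 200) (tf i') idf) (nat_lit 0)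

/-- `b = v b' w g t` -/
noncomputable def covB (lk : ℕ → ℕ → ℕ) (B W : List ℕ) (g : ℕ) (bs : List ℕ) (rdf : ℕ → ℕ) (ft : ℕ → ℕ)
    (b s : ℕ) : ℕ :=
  frc (rdf s) fun sym => getK bs (nat_lit 0) (fun b' => decF lk W (fun fw => decF lk W (fun fv =>
    cnd (eqB B (lk b) fun q => fv (lk b' (fw (lk g (ft q))))) (Nat.succ (Nat.succ s)) (nat_lit 0))
      (nat_lit 200) (rdf (Nat.succ s)) idf) (nat_lit 200) (Nat.shiftRight sym (nat_lit 16)) idf)
        (Nat.land sym (nat_lit 65535))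

/-- a piece of the check of the double cosets -/
noncomputable def covA (lk : ℕ → ℕ → ℕ) (B E W : List ℕ) (g : ℕ) (tf : ℕ → ℕ) (φ : ℕ) (Cg bs : List ℕ) (lo cnt : ℕ)
    (rdf : ℕ → ℕ) : Bool :=
  Nat.blt (nat_lit 0) (rng (fun i s => decF lk E (fun ft => nz (each (covC lk B E W g tf φ rdf ft) Cg s)
    (each (covB lk B W g bs rdf ft) bs)) (nat_lit 200) (tf i) idf) cnt lo (nat_lit 1))

theorem mul_closed [Finite G] {P : G → Prop} {A : Set G} (h : ∀ a ∈ A, ∀ y, P y → P (y * a)) :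
    ∀ a ∈ closure A, ∀ y, P y → P (y * a) := by
  intro a ha
  induction ha using closure_induction with
  | mem x hx => exact h x hx
  | one => simp
  | mul a b _ _ h1 h2 => exact fun y hy => by rw [← mul_assoc]; exact h2 _ (h1 y hy)
  | inv a _ h1 =>
    have h2 : ∀ e : ℕ, ∀ y, P y → P (y * a ^ e) := fun e => by
      induction e with
      | zero => simp
      | succ e ih => exact fun y hy => by rw [pow_succ, ← mul_assoc]; exact h1 _ (ih y hy)
    have h3 : a⁻¹ = a ^ (orderOf a - 1) := by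
      rw [inv_eq_iff_mul_eq_one, ← pow_succ', Nat.sub_add_cancel (orderOf_pos a), pow_orderOf_eq_one]
    exact h3 ▸ h2 _

theorem covA_spec [Finite G] {B : List ℕ} (hB : M.Base B) {Cg E W bs : List ℕ} {g : ℕ} (hg : M.In lk g)
    (hC : AllIn M lk Cg) (hE : AllIn M lk E) {H : Subgroup G} (hW : SubIn M lk H W) (hb : AllIn M lk bs)
    {tf : ℕ → ℕ} {φ : ℕ} (h0 : tf 0 = 0 ∧ 0 < φ)
    (h : Upto (fun lo cnt => ∃ rdf, covA lk B E W g tf φ Cg bs lo cnt rdf = true) φ) : ∃ t : ℕ → G,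
      (∀ a ∈ Gn M lk Cg, ∃ i < φ, ∃ w ∈ H, M.el lk g * a = w * (M.el lk g * t i)) ∧
      ∀ i < φ, ∀ b ∈ bs, ∃ b' ∈ bs, ∃ v ∈ H, ∃ w ∈ H, M.el lk b = v * (M.el lk b' * (w * (M.el lk g * t i))) := by
  choose t ht ft h1 h2 using fun c => decF_det hE.top (nat_lit 200) c 1 idf (one_mem _) PM.rf_one
  choose u hu fu k1 k2 using fun c => decF_det hW (nat_lit 200) c 1 idf (one_mem _) PM.rf_one
  have hg := hg.rf
  set γ := M.el lk g with hγ
  have h3 : ∀ i < φ, (∀ c ∈ Cg, ∃ i' < φ, ∃ w ∈ H, γ * t (tf i) * M.el lk c = w * (γ * t (tf i'))) ∧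
      ∀ b ∈ bs, ∃ b' ∈ bs, ∃ v ∈ H, ∃ w ∈ H, M.el lk b = v * (M.el lk b' * (w * (γ * t (tf i)))) := by
    intro i hi
    obtain ⟨lo, cnt, a1, a2, rdf, a3⟩ := h i hi
    obtain ⟨s, a4⟩ := rng_spec cnt lo _ (ne_of_blt a3) i a1 a2
    rw [h2] at a4
    obtain ⟨a5, a6⟩ := nz_ne a4
    refine ⟨fun c hc' => ?_, fun b hb' => ?_⟩
    · obtain ⟨s', a7⟩ := each_spec a5 c hc'
      rw [covC, frc_eq, frc_eq] at a7
      obtain ⟨a8, a9⟩ := cnd_ne a7
      rw [h2, k2] at a9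
      refine ⟨Nat.land (rdf s') 65535, by simpa using a8, _, hu (Nat.shiftRight (rdf s') 16), ?_⟩
      rw [mul_assoc]
      exact hB.eq (hg.mul ((h1 _).mul (hC c hc').rf)) ((k1 _).mul (hg.mul (h1 _))) (cnd_ne a9).1
    · obtain ⟨s', a7⟩ := each_spec a6 b hb'
      rw [covB, frc_eq] at a7
      rcases getK_det (β := ℕ) bs (Nat.land (rdf s') (nat_lit 65535)) with a8 | ⟨b', a9, a8⟩
      · exact absurd (a8 _ _) a7
      rw [a8, k2, k2] at a7
      exact ⟨b', a9, _, hu (rdf (Nat.succ s')), _, hu (Nat.shiftRight (rdf s') 16), hB.eq (hb b hb').rf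
        ((k1 _).mul ((hb b' a9).rf.mul ((k1 _).mul (hg.mul (h1 _))))) (cnd_ne a7).1⟩
  have h4 : t (tf 0) = 1 := by
    refine hB.eq (h1 _) PM.rf_one (eqB_of fun q _ => ?_)
    have := h2 (tf 0) fun f => f q
    rw [h0.1] at this ⊢
    exact this.symm
  refine ⟨fun i => t (tf i), fun a ha => ?_, fun i hi => (h3 i hi).2⟩
  exact mul_closed (P := fun y => ∃ i < φ, ∃ w ∈ H, y = w * (γ * t (tf i))) (by
      rintro _ ⟨c, hc', rfl⟩ _ ⟨i, hi, w, hw, rfl⟩
      obtain ⟨i', b1, w', b2, b3⟩ := (h3 i hi).1 c hc'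
      exact ⟨i', b1, w * w', mul_mem hw b2, by rw [mul_assoc, b3, mul_assoc w]⟩) a ha γ
      ⟨0, h0.2, 1, one_mem _, by rw [h4, one_mul, mul_one]⟩

theorem card_gn_nil : Nat.card (Gn M lk []) ≤ 1 := by simp [Gn]

/-- an upper bound for the order -/
theorem card_gn_le [Finite G] {B : List ℕ} (hB : M.Base B) {Cg E W : List ℕ} {g : ℕ} (hg : M.In lk g)
    (hC : AllIn M lk Cg) (hE : AllIn M lk E) (hW : AllIn M lk W) {tf : ℕ → ℕ} {φ m m' : ℕ}
    (h0 : (tf 0 = 0 ∧ 0 < φ) ∧ φ * m' ≤ m) (hm : Nat.card (Gn M lk W) ≤ m')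
    (h : Upto (fun lo cnt => ∃ rdf, covA lk B E W g tf φ Cg [] lo cnt rdf = true) φ) : Nat.card (Gn M lk Cg) ≤ m := by
  obtain ⟨t, h1, -⟩ := covA_spec hB hg hC hE hW.gn AllIn.nil h0.1 h
  choose i hi w hw e using fun a : Gn M lk Cg => h1 a a.2
  refine le_trans ?_ ((Nat.mul_le_mul_left φ hm).trans h0.2)
  conv_rhs => rw [← Nat.card_fin φ, ← Nat.card_prod]
  refine Nat.card_le_card_of_injective (fun a => (⟨i a, hi a⟩, ⟨w a, hw a⟩)) fun a b hab => ?_
  have e1 : i a = i b := congrArg (fun z => z.1.1) hab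
  have e2 : w a = w b := congrArg (fun z => z.2.1) hab
  exact Subtype.ext (mul_left_cancel (a := M.el lk g) (by rw [e a, e b, e1, e2]))

/-- `γ` is trivial or does not normalise `⟨x⟩` -/
noncomputable def ntN (lk : ℕ → ℕ → ℕ) (B : List ℕ) (x p γ : ℕ) : Bool :=
  cnd (eqB B (lk γ) idf) true (allN p fun a => cnd (eqB B (fun q => lk γ (lk x q)) fun q => itr (lk x) a (lk γ q)) false true)

theorem cover_of [Finite G] {B : List ℕ} (hB : M.Base B) {Cg E bs : List ℕ} {g x o p : ℕ} (hC : AllIn M lk (g :: Cg))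
    (hE : SubIn M lk (Gn M lk Cg) E) (hb : AllIn M lk (o :: bs)) (ho : eqB B (lk o) idf = true) (hx : M.In lk x)
    (hp : orderOf (M.el lk x) = p) (hn : allL (o :: bs) (ntN lk B x p) = true) (htop : Gn M lk (g :: Cg) = ⊤)
    (hN : Gn M lk Cg ≤ Nx (M.el lk x)) {ν : ℕ} (hν : Nat.card (Gn M lk Cg) ≤ ν) {tf : ℕ → ℕ} {φ : ℕ}
    (h0 : tf 0 = 0 ∧ 0 < φ) (h : Upto (fun lo cnt => ∃ rdf, covA lk B E E g tf φ Cg (o :: bs) lo cnt rdf = true) φ) :
    Nat.card (Nx (M.el lk x)) ≤ ν ∧ ∀ u : G, ∃ b ∈ o :: bs, Ty (M.el lk x) (M.el lk b) u := by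
  obtain ⟨t, h5, h3⟩ := covA_spec hB (hC g List.mem_cons_self) (fun c hc' => hC c (List.mem_cons_of_mem _ hc')) hE.all hE hb
    h0 h
  set H := Gn M lk Cg with hH
  have h6 : ∀ u : G, ∃ b ∈ o :: bs, ∃ v ∈ H, ∃ w ∈ H, u = v * M.el lk b * w⁻¹ := fun u => by
    simpa only [one_mul] using mul_closed (P := fun y => ∃ b ∈ o :: bs, ∃ v ∈ H, ∃ w ∈ H, y = v * M.el lk b * w⁻¹)
      (A := {a | a⁻¹ = M.el lk g ∨ a ∈ H}) (by
      rintro a (ha | ha) _ ⟨b, b1, v, b2, w, b3, rfl⟩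
      · obtain ⟨i, c1, w1, c2, c3⟩ := h5 w b3
        obtain ⟨b', c4, v2, c5, w2, c6, c7⟩ := h3 i c1 b b1
        refine ⟨b', c4, v * v2, mul_mem b2 c5, w1 * w2⁻¹, mul_mem c2 (inv_mem c6), ?_⟩
        calc _ = v * M.el lk b * (a⁻¹ * w)⁻¹ := by group
          _ = _ := by rw [ha, c3, c7]; group
      · exact ⟨b, b1, v, b2, a⁻¹ * w, mul_mem (inv_mem ha) b3, by group⟩) u (by
      have c1 : u ∈ Gn M lk (g :: Cg) := htop ▸ mem_top u
      refine (closure_le _).2 ?_ c1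
      rintro _ ⟨c, hc', rfl⟩
      rcases List.mem_cons.1 hc' with rfl | hc'
      · exact inv_mem_iff.1 (subset_closure (Or.inl (inv_inv _)))
      · exact subset_closure (Or.inr (subset_closure ⟨c, hc', rfl⟩))) 1 ⟨o, List.mem_cons_self, 1, one_mem _, 1, one_mem _, by
        rw [hB.eq (hb o List.mem_cons_self).rf PM.rf_one ho]; simp⟩
  refine ⟨le_trans (card_le_of_le fun u hu => ?_) hν, fun u => ?_⟩
  · obtain ⟨b, b1, v, b2, w, b3, rfl⟩ := h6 u
    have c1 : M.el lk b ∈ Nx (M.el lk x) := by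
      simpa [mul_assoc] using mul_mem (mul_mem (inv_mem (hN b2)) hu) (hN b3)
    have c2 := of_allL hn b b1
    have c3 := (hb b b1).rf
    unfold ntN at c2
    cases c4 : eqB B (lk b) idf
    · rw [c4, cnd_false] at c2
      have c5 := (mem_normalizer_iff.1 c1 _).1 (mem_zpowers (M.el lk x))
      rw [mem_zpowers_iff_mem_range_orderOf, Finset.mem_image] at c5
      obtain ⟨a, c6, c7⟩ := c5
      have c8 := of_allN c2 a (hp ▸ Finset.mem_range.1 c6)
      rw [hB.eqB_of_eq (c3.mul hx.rf) (by simpa [c7] using (hx.rf.pow a).mul c3), cnd_true] at c8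
      exact absurd c8 (by simp)
    · rw [hB.eq c3 PM.rf_one c4, mul_one]
      exact mul_mem b2 (inv_mem b3)
  · obtain ⟨b, b1, v, b2, w, b3, e⟩ := h6 u
    exact ⟨b, b1, v, hN b2, w⁻¹, inv_mem (hN b3), e⟩

theorem okN_spec [Finite G] {B : List ℕ} (hB : M.Base B) {x p : ℕ} (hx : M.In lk x) {g : G} {f : ℕ → ℕ} (hf : M.Rf g f)
    (hok : okN lk B x p f = true) : g ∈ Nx (M.el lk x) := by
  obtain ⟨a, ha⟩ := of_anyN hok
  have h1 := hB.eq (hf.mul hx.rf) ((hx.rf.pow a).mul hf) ha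
  apply mem_normalizer_fintype
  rintro _ ⟨k, rfl⟩
  have h2 : g * M.el lk x * g⁻¹ = M.el lk x ^ a := by rw [h1]; group
  have h3 : g * M.el lk x ^ k * g⁻¹ = (M.el lk x ^ a) ^ k := by rw [← h2, conj_zpow]
  show g * M.el lk x ^ k * g⁻¹ ∈ zpowers (M.el lk x)
  rw [h3]
  exact zpow_mem (npow_mem_zpowers _ _) k

theorem gn_le_Nx [Finite G] {B : List ℕ} (hB : M.Base B) {x p : ℕ} (hx : M.In lk x) {E : List ℕ} (hE : AllIn M lk E)
    (h : allL E (fun t => okN lk B x p (lk t)) = true) : Gn M lk E ≤ Nx (M.el lk x) :=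
  (closure_le _).2 (by rintro _ ⟨t, ht, rfl⟩; exact okN_spec hB hx (hE t ht).rf (of_allL h t ht))

/-- `f` normalises `⟨x⟩` and `⟨b⟩` -/
noncomputable def okS (lk : ℕ → ℕ → ℕ) (B : List ℕ) (x p b : ℕ) (f : ℕ → ℕ) : Bool :=
  cnd (okN lk B x p f) (okN lk B b p f) false

/-- `x γ = γ b`, and the members of `Ks` are conjugates of `b` under the normaliser of `⟨x⟩` -/
noncomputable def recChk (lk : ℕ → ℕ → ℕ) (B E : List ℕ) (x p γ b : ℕ) (Ks : List (ℕ × ℕ)) : Bool :=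
  cnd (eqB B (fun q => lk x (lk γ q)) fun q => lk γ (lk b q)) (allL Ks fun z => pr z fun a c => decF lk E (fun f =>
    cnd (okN lk B x p f) (eqB B (fun q => f (lk b q)) fun q => lk a (f q)) false) (nat_lit 200) c idf) false

theorem ra_ok [Finite G] {B : List ℕ} (hB : M.Base B) {E : List ℕ} (hE : AllIn M lk E) {x p γ b ν N L k σ e : ℕ}
    (hx : M.In lk x) (hγ : M.In lk γ) (hb : M.In lk b) {Ks : List (ℕ × ℕ)} {K : List ℕ} (hK : AllIn M lk K)
    (hKs : Ks.map Prod.fst = K) (c1 : recChk lk B E x p γ b Ks = true) {levels : List (ℕ × List ℕ)}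
    (c2 : Nat.ble σ (chain lk E n (okS lk B x p b) levels []) = true)
    (h : 0 < σ ∧ k ≤ K.length ∧ ν * ν * L ≤ σ * (k * N + e * L)) :
    Ra.Ok (M.el lk x) ν N L ⟨k, σ, e⟩ (M.el lk γ) (K.map (M.el lk)) := by
  obtain ⟨a1, a2⟩ := cnd_and c1
  have e1 : (M.el lk γ)⁻¹ * M.el lk x * M.el lk γ = M.el lk b := by
    rw [mul_assoc, hB.eq (hx.rf.mul hγ.rf) (hγ.rf.mul hb.rf) a1, inv_mul_cancel_left]
  refine ⟨h.1, ?_, by simpa using h.2.1, fun a ha => ?_, h.2.2⟩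
  · rw [e1]
    exact chain_le hE.top (fun _ _ _ hf hok => mem_inf.2 ⟨okN_spec hB hx hf (cnd_and hok).1,
      okN_spec hB hb hf (cnd_and hok).2⟩) c2
  · obtain ⟨t, ht, rfl⟩ := List.mem_map.1 ha
    have ht' := hK t ht
    rw [← hKs] at ht
    obtain ⟨⟨t, c⟩, hz, rfl⟩ := List.mem_map.1 ht
    have a3 := of_allL a2 _ hz
    obtain ⟨u, -, f, a4, a5⟩ := decF_spec hE.top (fun f => cnd (okN lk B x p f)
      (eqB B (fun q => f (lk b q)) fun q => lk t (f q)) false) (nat_lit 200) c 1 idf (mem_top _) PM.rf_one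
    rw [pr_eq, a5] at a3
    refine ⟨u, okN_spec hB hx a4 (cnd_and a3).1, ?_⟩
    rw [e1, hB.eq (a4.mul hb.rf) (ht'.rf.mul a4) (cnd_and a3).2, mul_inv_cancel_right]

/-- a piece of the check of a list -/
noncomputable def chkL (ns : List ℕ → ℕ → Bool) (K : List ℕ) (x j lo cnt : ℕ) (rdf : ℕ → ℕ) : Bool :=
  Nat.blt (nat_lit 0) (top ns rdf j [x] cnt (K.drop lo) (nat_lit 1))

theorem dn_of_anc [Finite G] {ns : List ℕ → ℕ → Bool} (hns : NsOk M lk ns) {x ν N L j J K : ℕ} (hx : M.In lk x)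
    (hN : Nat.card G = N) {rs : List Ra} {ds : List (ℕ × List ℕ)} {bs Kl : List ℕ}
    (hc' : Nat.card (Nx (M.el lk x)) ≤ ν ∧ ∀ u : G, ∃ b ∈ bs, Ty (M.el lk x) (M.el lk b) u)
    (h : List.Forall₂ (fun r d => Ra.Ok (M.el lk x) ν N L r (M.el lk d.1) (d.2.map (M.el lk))) rs ds)
    (e1 : ds.map Prod.fst = bs) (e2 : ds.flatMap Prod.snd = Kl) (hK : AllIn M lk Kl) {m : ℕ} (hm : Kl.length ≤ m)
    (hf : Upto (fun lo cnt => ∃ rdf, chkL ns Kl x j lo cnt rdf = true) m)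
    (hnum : 0 < L ∧ (N * j + L * (rs.map Ra.e).sum) * K ≤ J * N * L) : Dn (M.el lk x) J K := by
  refine dn_of_anchor hN hc'.1 (ds := ds.map fun d => (M.el lk d.1, d.2.map (M.el lk))) (List.forall₂_map_right_iff.2 h)
    (fun u => ?_) ?_ hnum
  · obtain ⟨b, h1, h2⟩ := hc'.2 u
    obtain ⟨d, h3, rfl⟩ := List.mem_map.1 (e1 ▸ h1)
    exact ⟨_, List.mem_map_of_mem h3, h2⟩
  · have h1 : (ds.map fun d => (M.el lk d.1, d.2.map (M.el lk))).flatMap Prod.snd = Kl.map (M.el lk) := by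
      rw [← e2, List.flatMap_map, List.map_flatMap]
    have h2 : Rl M lk (Kl.map (M.el lk)) Kl :=
      List.forall₂_map_left_iff.2 (List.forall₂_same.2 fun t ht => (hK t ht).rf)
    rw [h1]
    refine few_of_nodes m (fun i hi a r e => ?_) ?_
    · obtain ⟨l, cnt, b1, b2, rdf, b3⟩ := hf i hi
      refine top_spec hns rdf (.cons hx.rf .nil) cnt _ (List.forall₂_drop l h2) (ne_of_blt b3) (i - l) (by omega) a r ?_
      rw [List.drop_drop, show l + (i - l) = i by omega, e]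
    · rw [List.drop_of_length_le (by simpa using hm)]
      exact fun _ _ _ => by simp

end Cfsg.Agent.SB.Spor
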