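import Cfsg.Agent.SB.Spor.Chain

/-!
# S5765, sporadic rows: the certificate engine, part 3 (helper63)

Lists of conjugates of which a solvable subgroup contains only few members.
-/

set_option autoImplicit false

namespace Cfsg.Agent.SB.Spor

open Subgroup Cfsg
open scoped Classical

variable {G : Type*} [Group G] {n : ℕ}

/-- a list of elements and its list of tables -/
abbrev Rl (M : PM G n) (lk : ℕ → ℕ → ℕ) (Kg : List G) (K : List ℕ) : Prop :=
  List.Forall₂ (fun g t => M.Rf g (lk t)) Kg K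

/-- a sound test of non-solvability -/
def NsOk (M : PM G n) (lk : ℕ → ℕ → ℕ) (ns : List ℕ → ℕ → Bool) : Prop :=
  ∀ Cg C id, Rl M lk Cg C → ns C id = true → ∀ S : Subgroup G, Group.IsSolvable S → (∀ a ∈ Cg, a ∈ S) → False

theorem Rl.mem {M : PM G n} {lk : ℕ → ℕ → ℕ} {Cg : List G} {C : List ℕ} (h : Rl M lk Cg C) {S : Subgroup G}
    (hS : ∀ a ∈ Cg, a ∈ S) : ∀ t ∈ C, ∃ g ∈ S, M.Rf g (lk t) := by
  induction h with
  | nil => simp
  | cons h1 _ ih =>
    intro t ht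
    rcases List.mem_cons.1 ht with rfl | ht
    exacts [⟨_, hS _ List.mem_cons_self, h1⟩, ih (fun a ha => hS a (List.mem_cons_of_mem _ ha)) t ht]

theorem Rl.mem' {M : PM G n} {lk : ℕ → ℕ → ℕ} {Cg : List G} {C : List ℕ} (h : Rl M lk Cg C) :
    ∀ g ∈ Cg, ∃ t ∈ C, M.Rf g (lk t) := by
  induction h with
  | nil => simp
  | cons h1 _ ih =>
    intro g hg
    rcases List.mem_cons.1 hg with rfl | hg
    · exact ⟨_, List.mem_cons_self, h1⟩
    · obtain ⟨t, ht, h2⟩ := ih g hg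
      exact ⟨t, List.mem_cons_of_mem _ ht, h2⟩

/-- two words `u`, `v` such that `u`, `v`, `u v` have pairwise coprime orders -/
noncomputable def nsC (lk : ℕ → ℕ → ℕ) (B : List ℕ) (WP : List (List ℕ × List ℕ)) (C : List ℕ) (id : ℕ) : Bool :=
  getK WP false (fun w => pr w fun u v => cmp lk C u fun fu => cmp lk C v fun fv =>
    cnd (eqB B fu idf) false (frc (ordB B fu) fun a => frc (ordB B fv) fun b =>
      cnd (Nat.beq (Nat.gcd a b) (nat_lit 1)) (frc (ordB B fun q => fu (fv q)) fun c =>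
        cnd (Nat.beq (Nat.gcd a c) (nat_lit 1)) (Nat.beq (Nat.gcd b c) (nat_lit 1)) false) false)) id

theorem nsC_ok {M : PM G n} {lk : ℕ → ℕ → ℕ} {B : List ℕ} (hB : M.Base B) (WP : List (List ℕ × List ℕ)) :
    NsOk M lk (nsC lk B WP) := by
  intro Cg C id hC h S hS hCS
  have hm := hC.mem hCS
  let F : (ℕ → ℕ) → (ℕ → ℕ) → Bool := fun fu fv =>
    cnd (eqB B fu idf) false (frc (ordB B fu) fun a => frc (ordB B fv) fun b =>
      cnd (Nat.beq (Nat.gcd a b) (nat_lit 1)) (frc (ordB B fun q => fu (fv q)) fun c =>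
        cnd (Nat.beq (Nat.gcd a c) (nat_lit 1)) (Nat.beq (Nat.gcd b c) (nat_lit 1)) false) false)
  have e : nsC lk B WP C id =
    getK WP false (fun w => pr w fun u v => cmp lk C u fun fu => cmp lk C v fun fv => F fu fv) id := rfl
  rw [e] at h
  rcases getK_cases WP false (fun w => pr w fun u v => cmp lk C u fun fu => cmp lk C v fun fv => F fu fv) id with
    h1 | ⟨⟨u, v⟩, -, h1⟩
  · rw [h1] at h
    exact absurd h (by simp)
  obtain ⟨a, ha, fu, h2, h3⟩ := cmp_spec hm u fun fu => cmp lk C v fun fv => F fu fv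
  obtain ⟨b, hb, fv, h4, h5⟩ := cmp_spec hm v fun fv => F fu fv
  rw [h1, pr_eq, h3, h5] at h
  simp only [F] at h
  cases h6 : eqB B fu idf
  swap
  · rw [h6, cnd_true] at h
    exact absurd h (by simp)
  rw [h6, cnd_false, frc_eq, frc_eq] at h
  obtain ⟨h7, h8⟩ := cnd_and h
  rw [frc_eq] at h8
  obtain ⟨h9, h10⟩ := cnd_and h8
  exact hB.ne_one h2 h6 (eq_one_of_coprime hS ha hb (hB.pow_ordB h2) (hB.pow_ordB h4) (hB.pow_ordB (h2.mul h4))
    (Nat.eq_of_beq_eq_true h7) (Nat.eq_of_beq_eq_true h9) (Nat.eq_of_beq_eq_true h10))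

/-- two tests: even numbers for the first, odd numbers for the second -/
noncomputable def nsOr (ns ns' : List ℕ → ℕ → Bool) (C : List ℕ) (id : ℕ) : Bool :=
  cz (Nat.land id (nat_lit 1)) (ns C (Nat.shiftRight id (nat_lit 1))) (ns' C (Nat.shiftRight id (nat_lit 1)))

theorem nsOr_ok {M : PM G n} {lk : ℕ → ℕ → ℕ} {ns ns' : List ℕ → ℕ → Bool} (h : NsOk M lk ns) (h' : NsOk M lk ns') :
    NsOk M lk (nsOr ns ns') := by
  intro Cg C id hC hs
  unfold nsOr at hs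
  rcases cz_cases (Nat.land id (nat_lit 1)) (ns C (Nat.shiftRight id (nat_lit 1)))
    (ns' C (Nat.shiftRight id (nat_lit 1))) with ⟨-, h1⟩ | h1
  · exact h Cg C _ hC (h1 ▸ hs)
  · exact h' Cg C _ hC (h1 ▸ hs)

/-- predecessor, in continuation style -/
noncomputable def pre {β : Type} (v : ℕ) (a : β) (k : ℕ → β) : β := Nat.rec a (fun m _ => k m) v

theorem pre_cases {β : Type} (v : ℕ) (a : β) (k : ℕ → β) : pre v a k = a ∨ ∃ m, v = m + 1 ∧ pre v a k = k m := by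
  cases v
  exacts [Or.inl rfl, Or.inr ⟨_, rfl, rfl⟩]

/-- one node: either descend, or test `a :: C` -/
noncomputable def node (ns : List ℕ → ℕ → Bool) (rdf : ℕ → ℕ) (sub : ℕ → List ℕ → ℕ → ℕ) (j : ℕ) (C : List ℕ)
    (s : ℕ) : ℕ :=
  pre (rdf s) (pre j (nat_lit 0) fun j' => sub j' C (Nat.succ s)) fun id => cnd (ns C id) (Nat.succ s) (nat_lit 0)

/-- a solvable subgroup containing `C` contains at most `j` members of `K` -/
noncomputable def tree (ns : List ℕ → ℕ → Bool) (rdf : ℕ → ℕ) (K : List ℕ) : ℕ → List ℕ → ℕ → ℕ :=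
  List.rec (fun _ _ s => s) (fun a _ ih j C s => nz (node ns rdf ih j (a :: C) s) fun s' => ih j C s') K

/-- pop a point -/
noncomputable def top (ns : List ℕ → ℕ → Bool) (rdf : ℕ → ℕ) (j : ℕ) (C : List ℕ) (cnt : ℕ) : List ℕ → ℕ → ℕ :=
  Nat.rec (fun _ s => s) (fun _ ih K s => pop K s fun a r =>
    nz (node ns rdf (tree ns rdf r) j (a :: C) s) fun s' => ih r s') cnt

/-- run `body` on all members of a list -/
noncomputable def each (body : ℕ → ℕ → ℕ) (V : List ℕ) : ℕ → ℕ :=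
  List.rec (fun s => s) (fun v _ ih s => nz (body v s) ih) V

theorem each_spec {body : ℕ → ℕ → ℕ} {V : List ℕ} : ∀ {s}, each body V s ≠ 0 → ∀ v ∈ V, ∃ s, body v s ≠ 0 := by
  induction V with
  | nil => simp
  | cons a V ih =>
    intro s h v hv
    obtain ⟨h1, h2⟩ := nz_ne (v := body a s) (k := each body V) h
    rcases List.mem_cons.1 hv with rfl | hv
    exacts [⟨s, h1⟩, ih h2 v hv]

/-- the statement at one position -/
def Node (Cg : List G) (j : ℕ) (a : G) (r : List G) : Prop :=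
  ∀ S : Subgroup G, Group.IsSolvable S → (∀ c ∈ Cg, c ∈ S) → a ∈ S → r.countP (fun a => decide (a ∈ S)) + 1 ≤ j

theorem Few.cons {Cg r : List G} {j : ℕ} {a : G} (h1 : Node Cg j a r) (h2 : Few Cg r j) : Few Cg (a :: r) j := by
  intro S hS hC
  rw [List.countP_cons]
  by_cases ha : a ∈ S
  · simpa [ha] using h1 S hS hC ha
  · simpa [ha] using h2 S hS hC

theorem few_of_nodes {Cg : List G} {j : ℕ} (lo : ℕ) : ∀ {Kg : List G},
    (∀ i < lo, ∀ a r, Kg.drop i = a :: r → Node Cg j a r) → Few Cg (Kg.drop lo) j → Few Cg Kg j := by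
  induction lo with
  | zero => exact fun _ h => h
  | succ lo ih =>
    intro Kg h1 h2
    cases Kg with
    | nil => exact h2
    | cons a r => exact Few.cons (h1 0 (by omega) a r rfl) (ih (fun i hi => h1 (i + 1) (by omega)) h2)

section spec

variable {M : PM G n} {lk : ℕ → ℕ → ℕ} {ns : List ℕ → ℕ → Bool}

theorem node_spec (hns : NsOk M lk ns) (rdf : ℕ → ℕ) {sub : ℕ → List ℕ → ℕ → ℕ} {r : List G}
    (hsub : ∀ j Cg C s, Rl M lk Cg C → sub j C s ≠ 0 → Few Cg r j) {j : ℕ} {a : G} {Cg : List G} {C : List ℕ}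
    (hC : Rl M lk (a :: Cg) C) {s : ℕ} (h : node ns rdf sub j C s ≠ 0) : Node Cg j a r := by
  intro S hS hCS ha
  have hm : ∀ c ∈ a :: Cg, c ∈ S := fun c hc => by
    rcases List.mem_cons.1 hc with rfl | hc
    exacts [ha, hCS c hc]
  unfold node at h
  rcases pre_cases (rdf s) (pre j (nat_lit 0) fun j' => sub j' C (Nat.succ s))
    (fun id => cnd (ns C id) (Nat.succ s) (nat_lit 0)) with h1 | ⟨id, -, h1⟩
  · rw [h1] at h
    rcases pre_cases j (nat_lit 0) (fun j' => sub j' C (Nat.succ s)) with h2 | ⟨j', rfl, h2⟩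
    · exact absurd h2 h
    · rw [h2] at h
      exact Nat.succ_le_succ (hsub _ _ _ _ hC h S hS hm)
  · rw [h1] at h
    exact (hns _ _ _ hC (cnd_ne h).1 S hS hm).elim

theorem tree_spec (hns : NsOk M lk ns) (rdf : ℕ → ℕ) {Kg : List G} {K : List ℕ} (hK : Rl M lk Kg K) :
    ∀ j Cg C s, Rl M lk Cg C → tree ns rdf K j C s ≠ 0 → Few Cg Kg j := by
  induction hK with
  | nil => exact fun _ _ _ _ _ _ _ _ _ => by simp
  | @cons a t Kg K h1 _ ih =>
    intro j Cg C s hC h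
    obtain ⟨h2, h3⟩ := nz_ne (v := node ns rdf (tree ns rdf K) j (t :: C) s) (k := fun s' => tree ns rdf K j C s') h
    exact Few.cons (node_spec hns rdf ih (List.Forall₂.cons h1 hC) h2) (ih _ _ _ _ hC h3)

theorem top_spec (hns : NsOk M lk ns) (rdf : ℕ → ℕ) {j : ℕ} {Cg : List G} {C : List ℕ} (hC : Rl M lk Cg C) (cnt : ℕ) :
    ∀ {Kg : List G} {K : List ℕ} (s : ℕ), Rl M lk Kg K → top ns rdf j C cnt K s ≠ 0 →
      ∀ i < cnt, ∀ a r, Kg.drop i = a :: r → Node Cg j a r := by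
  induction cnt with
  | zero => simp
  | succ cnt ih =>
    intro Kg K s hK h i hi a r e
    cases hK with
    | nil => simp at e
    | @cons b t Kg K h1 h2 =>
      obtain ⟨h3, h4⟩ := nz_ne (v := node ns rdf (tree ns rdf K) j (t :: C) s) (k := fun s' => top ns rdf j C cnt K s') h
      cases i with
      | zero =>
        obtain ⟨rfl, rfl⟩ := List.cons.inj e
        exact node_spec hns rdf (tree_spec hns rdf h2) (List.Forall₂.cons h1 hC) h3
      | succ i => exact ih _ h2 h4 i (by omega) a r e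

end spec

/-! ### lists of conjugates -/

/-- conjugates by a list of words -/
noncomputable def buildA (lk : ℕ → ℕ → ℕ) (mk : (ℕ → ℕ) → ℕ) (E : List (ℕ × ℕ)) (x : ℕ) (codes : List ℕ) :
    (List ℕ → ℕ) → ℕ :=
  List.rec (fun k => k []) (fun c _ ih k => decP lk E (fun f fi =>
    frc (mk fun q => f (lk x (fi q))) fun y => ih fun l => k (y :: l)) (nat_lit 200) c idf idf) codes

/-- conjugate `o` times -/
noncomputable def bloop (lk : ℕ → ℕ → ℕ) (mk : (ℕ → ℕ) → ℕ) (t ti : ℕ) (body : ℕ → List ℕ → (List ℕ → ℕ) → ℕ) (o : ℕ) :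
    ℕ → List ℕ → (List ℕ → ℕ) → ℕ :=
  Nat.rec (fun _ acc k => k acc) (fun _ ih y acc k =>
    frc (mk fun q => lk t (lk y (lk ti q))) fun y' => body y' acc fun acc' => ih y' acc' k) o

/-- the conjugates by all normal forms -/
noncomputable def build (lk : ℕ → ℕ → ℕ) (mk : (ℕ → ℕ) → ℕ) (gs : List (ℕ × ℕ × ℕ)) :
    ℕ → List ℕ → (List ℕ → ℕ) → ℕ :=
  List.rec (fun y acc k => k (y :: acc)) (fun g _ ih y acc k => pr3 g fun o t ti =>
    ih y acc fun acc' => bloop lk mk t ti ih (Nat.pred o) y acc' k) gs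

/-- the conjugates by all normal forms except the first -/
noncomputable def buildT (lk : ℕ → ℕ → ℕ) (mk : (ℕ → ℕ) → ℕ) (gs : List (ℕ × ℕ × ℕ)) :
    ℕ → List ℕ → (List ℕ → ℕ) → ℕ :=
  List.rec (fun _ acc k => k acc) (fun g r ih y acc k => pr3 g fun o t ti =>
    ih y acc fun acc' => bloop lk mk t ti (build lk mk r) (Nat.pred o) y acc' k) gs

/-- tables and inverse tables of a sequence -/
def GsInv (M : PM G n) (lk : ℕ → ℕ → ℕ) (gs : List (ℕ × ℕ × ℕ)) : Prop :=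
  ∀ g ∈ gs, M.Rf (M.el lk g.2.1) (lk g.2.1) ∧ M.Rf (M.el lk g.2.1)⁻¹ (lk g.2.2)

section bspec

variable {M : PM G n} {lk : ℕ → ℕ → ℕ} {mk : (ℕ → ℕ) → ℕ} {ver : (ℕ → ℕ) → ℕ → (ℕ → ℕ) → Bool}

theorem GsInv.of_chk {B E : List ℕ} (hB : M.Base B) (hE : AllIn M lk E) {gs : List (ℕ × ℕ × ℕ)}
    (h1 : ∀ g ∈ gs, g.2.1 ∈ E ∧ g.2.2 ∈ E) (h : invChk lk B (gs.map Prod.snd) = true) : GsInv M lk gs :=
  fun g hg => invChk_spec hB (fun t ht => by
    obtain ⟨a, ha, rfl⟩ := List.mem_map.1 ht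
    exact ⟨hE _ (h1 a ha).1, hE _ (h1 a ha).2⟩) h g.2 (List.mem_map_of_mem hg)

theorem buildA_spec (hT : M.Tab lk mk ver) {E : List (ℕ × ℕ)} (hE : ∀ t ∈ E, ∃ g, M.Rf g (lk t.1) ∧ M.Rf g⁻¹ (lk t.2))
    {x : ℕ} {c : G} (hx : M.Rf c (lk x)) (codes : List ℕ) (k : List ℕ → ℕ) :
    ∃ Kg K, Rl M lk Kg K ∧ Kg.length = codes.length ∧ (∀ a ∈ Kg, ∃ h, a = h * c * h⁻¹) ∧
      buildA lk mk E x codes k = k K := by
  induction codes generalizing k with
  | nil => exact ⟨[], [], List.Forall₂.nil, rfl, by simp, rfl⟩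
  | cons d codes ih =>
    obtain ⟨g, f, fi, h1, h2, h3⟩ := decP_spec hE (fun f fi => frc (mk fun q => f (lk x (fi q))) fun y =>
      buildA lk mk E x codes fun l => k (y :: l)) (nat_lit 200) d 1 idf idf PM.rf_one (by rw [inv_one]; exact PM.rf_one)
    obtain ⟨Kg, K, h4, h5, h6, h7⟩ := ih fun l => k ((mk fun q => f (lk x (fi q))) :: l)
    refine ⟨g * c * g⁻¹ :: Kg, _ :: K, List.Forall₂.cons (hT.mk_spec _ _ ?_) h4, by simp [h5], fun a ha => ?_,
      (h3.trans (frc_eq _ _)).trans h7⟩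
    · rw [mul_assoc]
      exact h1.mul (hx.mul h2)
    · rcases List.mem_cons.1 ha with rfl | ha
      exacts [⟨g, rfl⟩, h6 a ha]

/-- the specification of a building function -/
def BSpec (M : PM G n) (lk : ℕ → ℕ → ℕ) (c : G) (body : ℕ → List ℕ → (List ℕ → ℕ) → ℕ) (P : G → G → Prop) : Prop :=
  ∀ (y : G) (t : ℕ) (Ys : List G) (acc : List ℕ), M.Rf (y * c * y⁻¹) (lk t) → Rl M lk (Ys.map fun y => y * c * y⁻¹) acc →
    ∃ (Ys' : List G) (L : List ℕ), Rl M lk (Ys'.map fun y => y * c * y⁻¹) L ∧ (∀ z ∈ Ys, z ∈ Ys') ∧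
      (∀ z, P y z → z ∈ Ys') ∧ ∀ k, body t acc k = k L

theorem bloop_spec (hT : M.Tab lk mk ver) {c x : G} {t ti : ℕ} (h1 : M.Rf x (lk t)) (h2 : M.Rf x⁻¹ (lk ti))
    {body : ℕ → List ℕ → (List ℕ → ℕ) → ℕ} {P : G → G → Prop} (hb : BSpec M lk c body P) (o : ℕ) :
    BSpec M lk c (bloop lk mk t ti body o) fun y z => ∃ e < o, P (x ^ (e + 1) * y) z := by
  induction o with
  | zero => exact fun y u Ys acc _ h => ⟨Ys, acc, h, fun _ h => h, by simp, fun _ => rfl⟩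
  | succ o ih =>
    intro y u Ys acc hu h
    have h3 : M.Rf (x * y * c * (x * y)⁻¹) (lk (mk fun q => lk t (lk u (lk ti q)))) := by
      refine hT.mk_spec _ _ ?_
      rw [show x * y * c * (x * y)⁻¹ = x * (y * c * y⁻¹ * x⁻¹) by group]
      exact h1.mul (hu.mul h2)
    obtain ⟨Y1, L1, a1, a2, a3, a4⟩ := hb _ _ Ys acc h3 h
    obtain ⟨Y2, L2, b1, b2, b3, b4⟩ := ih _ _ Y1 L1 h3 a1
    refine ⟨Y2, L2, b1, fun z hz => b2 z (a2 z hz), ?_, fun k => ?_⟩
    · rintro z ⟨e, he, hz⟩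
      cases e with
      | zero => exact b2 z (a3 z (by simpa using hz))
      | succ e => exact b3 z ⟨e, by omega, by rwa [← mul_assoc, ← pow_succ]⟩
    · have e : bloop lk mk t ti body (o + 1) u acc k = frc (mk fun q => lk t (lk u (lk ti q))) fun y' =>
        body y' acc fun acc' => bloop lk mk t ti body o y' acc' k := rfl
      rw [e, frc_eq, a4, b4]

theorem build_spec (hT : M.Tab lk mk ver) (c : G) {gs : List (ℕ × ℕ × ℕ)} (h : GsInv M lk gs) :
    BSpec M lk c (build lk mk gs) fun y z => ∃ m, NF M lk gs m ∧ z = m * y := by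
  induction gs with
  | nil =>
    refine fun y u Ys acc hu h => ⟨y :: Ys, u :: acc, List.Forall₂.cons hu h, fun _ h => List.mem_cons_of_mem _ h, ?_,
      fun _ => rfl⟩
    rintro _ ⟨_, rfl, rfl⟩
    simp
  | cons g gs ih =>
    obtain ⟨o, t, ti⟩ := g
    have ih' := ih fun a ha => h a (List.mem_cons_of_mem _ ha)
    obtain ⟨h1, h2⟩ := h _ List.mem_cons_self
    intro y u Ys acc hu hacc
    obtain ⟨Y1, L1, a1, a2, a3, a4⟩ := ih' y u Ys acc hu hacc
    obtain ⟨Y2, L2, b1, b2, b3, b4⟩ := bloop_spec hT h1 h2 ih' (o - 1) y u Y1 L1 hu a1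
    refine ⟨Y2, L2, b1, fun z hz => b2 z (a2 z hz), ?_, fun k => (a4 _).trans (b4 k)⟩
    rintro _ ⟨_, ⟨e, he, m, hm, rfl⟩, rfl⟩
    cases e with
    | zero => exact b2 _ (a3 _ ⟨m, hm, by simp⟩)
    | succ e => exact b3 _ ⟨e, by dsimp only at he; omega, m, hm, mul_assoc _ _ _⟩

theorem buildT_spec (hT : M.Tab lk mk ver) (c : G) {gs : List (ℕ × ℕ × ℕ)} (h : GsInv M lk gs) :
    BSpec M lk c (buildT lk mk gs) fun y z => ∃ m, m ≠ 1 ∧ NF M lk gs m ∧ z = m * y := by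
  induction gs with
  | nil =>
    refine fun y u Ys acc hu h => ⟨Ys, acc, h, fun _ h => h, ?_, fun _ => rfl⟩
    rintro _ ⟨_, h1, rfl, rfl⟩
    exact absurd rfl h1
  | cons g gs ih =>
    obtain ⟨o, t, ti⟩ := g
    have h' : GsInv M lk gs := fun a ha => h a (List.mem_cons_of_mem _ ha)
    obtain ⟨h1, h2⟩ := h _ List.mem_cons_self
    intro y u Ys acc hu hacc
    obtain ⟨Y1, L1, a1, a2, a3, a4⟩ := ih h' y u Ys acc hu hacc
    obtain ⟨Y2, L2, b1, b2, b3, b4⟩ := bloop_spec hT h1 h2 (build_spec hT c h') (o - 1) y u Y1 L1 hu a1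
    refine ⟨Y2, L2, b1, fun z hz => b2 z (a2 z hz), ?_, fun k => (a4 _).trans (b4 k)⟩
    rintro _ ⟨_, h0, ⟨e, he, m, hm, rfl⟩, rfl⟩
    cases e with
    | zero => exact b2 _ (a3 _ ⟨m, by simpa using h0, hm, by simp⟩)
    | succ e => exact b3 _ ⟨e, by dsimp only at he; omega, m, hm, mul_assoc _ _ _⟩

theorem buildT_one (hT : M.Tab lk mk ver) {c : G} {x : ℕ} (hx : M.Rf c (lk x)) {gs : List (ℕ × ℕ × ℕ)}
    (h : GsInv M lk gs) : ∃ (Ys : List G) (L : List ℕ), Rl M lk (Ys.map fun y => y * c * y⁻¹) L ∧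
      (∀ m, NF M lk gs m → m = 1 ∨ m ∈ Ys) ∧ ∀ k, buildT lk mk gs x [] k = k L := by
  obtain ⟨Ys, L, h1, -, h2, h3⟩ := buildT_spec hT c h 1 x [] [] (by simpa using hx) List.Forall₂.nil
  refine ⟨Ys, L, h1, fun m hm => ?_, h3⟩
  by_cases h4 : m = 1
  exacts [Or.inl h4, Or.inr (h2 m ⟨m, h4, hm, (mul_one m).symm⟩)]

end bspec

/-! ### the density theorems -/

/-- the numbers below `m` are covered by intervals with property `P` -/
def Upto (P : ℕ → ℕ → Prop) (m : ℕ) : Prop := ∀ i < m, ∃ lo cnt, lo ≤ i ∧ i < lo + cnt ∧ P lo cnt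

theorem Upto.zero {P : ℕ → ℕ → Prop} : Upto P 0 := fun _ h => absurd h (by simp)

theorem Upto.step {P : ℕ → ℕ → Prop} {lo cnt m : ℕ} (h : Upto P lo) (hP : P lo cnt) (hm : m = lo + cnt) : Upto P m := by
  intro i hi
  by_cases h1 : i < lo
  exacts [h i h1, ⟨lo, cnt, by omega, by omega, hP⟩]

/-- check of a list of conjugates without symmetry -/
noncomputable def chkA (lk : ℕ → ℕ → ℕ) (mk : (ℕ → ℕ) → ℕ) (ns : List ℕ → ℕ → Bool) (E : List (ℕ × ℕ)) (x : ℕ)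
    (codes : List ℕ) (j : ℕ) (rdf : ℕ → ℕ) : Bool :=
  Nat.blt (nat_lit 0) (buildA lk mk E x codes fun K => tree ns rdf K j [] (nat_lit 1))

/-- a piece of the check with symmetry -/
noncomputable def chkS (lk : ℕ → ℕ → ℕ) (mk : (ℕ → ℕ) → ℕ) (ns : List ℕ → ℕ → Bool) (gs : List (ℕ × ℕ × ℕ)) (x j : ℕ)
    (lo cnt : ℕ) (rdf : ℕ → ℕ) : Bool :=
  Nat.blt (nat_lit 0) (buildT lk mk gs x [] fun K => top ns rdf j [x] cnt (K.drop lo) (nat_lit 1))

/-- the last piece of the check with symmetry -/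
noncomputable def chkS' (lk : ℕ → ℕ → ℕ) (mk : (ℕ → ℕ) → ℕ) (ns : List ℕ → ℕ → Bool) (gs : List (ℕ × ℕ × ℕ)) (x j : ℕ)
    (lo : ℕ) (rdf : ℕ → ℕ) : Bool :=
  Nat.blt (nat_lit 0) (buildT lk mk gs x [] fun K => tree ns rdf (K.drop lo) j [x] (nat_lit 1))

/-- a piece of the check of pairs -/
noncomputable def chkP (lk : ℕ → ℕ → ℕ) (mk : (ℕ → ℕ) → ℕ) (ns : List ℕ → ℕ → Bool) (A R : List (ℕ × ℕ × ℕ)) (x : ℕ)
    (lo cnt : ℕ) (rdf : ℕ → ℕ) : Bool :=
  Nat.blt (nat_lit 0) (buildT lk mk A x [] fun U => buildT lk mk R x [] fun V =>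
    each (fun v s => tree ns rdf (x :: U) (nat_lit 0) [v] s) ((V.drop lo).take cnt) (nat_lit 1))

/-- the last piece of the check of pairs -/
noncomputable def chkP' (lk : ℕ → ℕ → ℕ) (mk : (ℕ → ℕ) → ℕ) (ns : List ℕ → ℕ → Bool) (A R : List (ℕ × ℕ × ℕ)) (x : ℕ)
    (lo : ℕ) (rdf : ℕ → ℕ) : Bool :=
  Nat.blt (nat_lit 0) (buildT lk mk A x [] fun U => buildT lk mk R x [] fun V =>
    nz (tree ns rdf U (nat_lit 0) [x] (nat_lit 1))
      (each (fun v s => tree ns rdf (x :: U) (nat_lit 0) [v] s) (V.drop lo)))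

section dens

variable [Finite G] {M : PM G n} {lk : ℕ → ℕ → ℕ} {mk : (ℕ → ℕ) → ℕ} {ver : (ℕ → ℕ) → ℕ → (ℕ → ℕ) → Bool}
  {ns : List ℕ → ℕ → Bool}

theorem dn_of_chkA (hT : M.Tab lk mk ver) (hns : NsOk M lk ns) {E : List (ℕ × ℕ)}
    (hE : ∀ t ∈ E, M.Rf (M.el lk t.1) (lk t.1) ∧ M.Rf (M.el lk t.1)⁻¹ (lk t.2)) {x : ℕ} (hx : M.In lk x)
    {codes : List ℕ} {j k : ℕ} (hk : k ≤ codes.length) {rdf : ℕ → ℕ} (h : chkA lk mk ns E x codes j rdf = true) :
    Dn (M.el lk x) j k := by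
  obtain ⟨Kg, K, h1, h2, h3, h4⟩ := buildA_spec hT (fun t ht => ⟨_, hE t ht⟩) hx.rf codes
    fun K => tree ns rdf K j [] (nat_lit 1)
  have h5 := ne_of_blt h
  rw [h4] at h5
  exact (dn_of_few h3 (tree_spec hns rdf h1 j [] [] _ List.Forall₂.nil h5)).mono (h2 ▸ hk)

theorem dn_of_chkS (hT : M.Tab lk mk ver) (hns : NsOk M lk ns) {gs : List (ℕ × ℕ × ℕ)} (hi : GsInv M lk gs)
    (hpc : PCok M lk gs) {k : ℕ} (hk : k ≤ Nat.card (Mg M lk gs)) {x : ℕ} (hx : M.In lk x) {j lo : ℕ}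
    (h1 : Upto (fun lo cnt => ∃ rdf, chkS lk mk ns gs x j lo cnt rdf = true) lo) {rdf : ℕ → ℕ}
    (h2 : chkS' lk mk ns gs x j lo rdf = true) : Dn (M.el lk x) (j + 1) k := by
  obtain ⟨Ys, L, a1, a2, a3⟩ := buildT_one hT hx.rf hi
  have hC : Rl M lk [M.el lk x] [x] := List.Forall₂.cons hx.rf List.Forall₂.nil
  refine (dn_of_sym (Ys := Ys) (fun y hy => a2 y (hpc.nf y hy)) (few_of_nodes lo (fun i hi a r e => ?_) ?_)).mono hk
  · obtain ⟨l, cnt, b1, b2, rdf', b3⟩ := h1 i hi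
    have b4 := ne_of_blt b3
    rw [a3] at b4
    refine top_spec hns rdf' hC cnt _ (List.forall₂_drop l a1) b4 (i - l) (by omega) a r ?_
    rw [List.drop_drop, show l + (i - l) = i by omega, e]
  · have b4 := ne_of_blt h2
    rw [a3] at b4
    exact tree_spec hns rdf (List.forall₂_drop lo a1) j _ _ _ hC b4

theorem dn_of_chkP (hT : M.Tab lk mk ver) (hns : NsOk M lk ns) {A R gs : List (ℕ × ℕ × ℕ)} (hAR : A ++ R = gs)
    (hi : GsInv M lk gs) (hpc : PCok M lk gs) {k : ℕ} (hk : k ≤ Nat.card (Mg M lk gs)) {x : ℕ} (hx : M.In lk x)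
    {lo : ℕ} (h1 : Upto (fun lo cnt => ∃ rdf, chkP lk mk ns A R x lo cnt rdf = true) lo) {rdf : ℕ → ℕ}
    (h2 : chkP' lk mk ns A R x lo rdf = true) : Dn (M.el lk x) 1 k := by
  subst hAR
  set c := M.el lk x with hc
  obtain ⟨Us, U, a1, a2, a3⟩ := buildT_one hT hx.rf (gs := A) fun g hg => hi g (List.mem_append_left _ hg)
  obtain ⟨Vs, V, b1, b2, b3⟩ := buildT_one hT hx.rf (gs := R) fun g hg => hi g (List.mem_append_right _ hg)
  have c1 := ne_of_blt h2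
  rw [a3, b3] at c1
  obtain ⟨c2, c3⟩ := nz_ne c1
  have hU : Rl M lk (c :: Us.map fun y => y * c * y⁻¹) (x :: U) := List.Forall₂.cons hx.rf a1
  have hV : ∀ v ∈ V, ∃ rdf s, tree ns rdf (x :: U) (nat_lit 0) [v] s ≠ 0 := by
    intro v hv
    obtain ⟨i, hi', rfl⟩ := List.getElem_of_mem hv
    by_cases h3 : i < lo
    · obtain ⟨l, cnt, d1, d2, rdf', d3⟩ := h1 i h3
      have d4 := ne_of_blt d3
      rw [a3, b3] at d4
      refine ⟨rdf', each_spec d4 _ ?_⟩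
      rw [List.mem_iff_getElem]
      refine ⟨i - l, by simp; omega, ?_⟩
      simp [show l + (i - l) = i by omega]
    · refine ⟨rdf, each_spec c3 _ ?_⟩
      rw [List.mem_iff_getElem]
      refine ⟨i - lo, by simp; omega, ?_⟩
      simp [show lo + (i - lo) = i by omega]
  refine (dn_of_pairs (Y := Mg M lk (A ++ R)) fun y hy hy1 S hS h3 h4 => ?_).mono hk
  obtain ⟨m, d, e1, -, e2, rfl⟩ := (hpc.nf y hy).append
  set u := evc M lk A d with hu
  have hmR : m ∈ Mg M lk R := by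
    obtain ⟨m', d', f0, -, -, f⟩ := NF.append (A := R) (B := []) (by rwa [List.append_nil])
    obtain rfl : m' = 1 := f0
    rw [f, one_mul]
    exact evc_mem R d'
  have g1 : m⁻¹ * c * m⁻¹⁻¹ ∈ cj S m⁻¹ := mem_cj.2 (by simpa [mul_assoc] using h3)
  have g2 : u * c * u⁻¹ ∈ cj S m⁻¹ := mem_cj.2 (by simpa [mul_assoc] using h4)
  have hS2 := cj_solvable hS m⁻¹
  have hcount : ∀ {L : List G} {a : G}, a ∈ L → a ∈ cj S m⁻¹ → ¬ L.countP (fun a => decide (a ∈ cj S m⁻¹)) ≤ 0 := by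
    intro L a ha ha' h5
    exact (List.countP_eq_zero.1 (Nat.le_zero.1 h5) a ha) (by simpa using ha')
  rcases b2 m⁻¹ (hpc.right.nf _ (inv_mem hmR)) with h5 | h5
  · have h6 : m = 1 := inv_eq_one.1 h5
    rcases a2 u e2 with h7 | h7
    · exact hy1 (by rw [h6, h7, one_mul])
    · refine hcount (List.mem_map_of_mem h7) g2 (tree_spec hns rdf a1 _ [c] [x] _
        (List.Forall₂.cons hx.rf List.Forall₂.nil) c2 _ hS2 ?_)
      simpa [h6, mem_cj] using h3
  · obtain ⟨v, hv, h6⟩ := b1.mem' _ (List.mem_map_of_mem h5)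
    obtain ⟨rdf', s, h7⟩ := hV v hv
    refine hcount (L := c :: Us.map fun y => y * c * y⁻¹) ?_ g2 (tree_spec hns rdf' hU _ [_] [v] _
      (List.Forall₂.cons h6 List.Forall₂.nil) h7 _ hS2 (by simpa using g1))
    rcases a2 u e2 with h8 | h8
    · simp [h8]
    · exact List.mem_cons_of_mem _ (List.mem_map_of_mem h8)

theorem dn_of_cov {p k : ℕ} {reps : List ℕ} (hc : Cov M lk p reps)
    (h : ∀ t ∈ reps, (orderOf (M.el lk t)).Prime ∧ Dn (M.el lk t) 1 k) {c : G} (ho : orderOf c = p) : Dn c 1 k := by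
  obtain ⟨t, ht, h1⟩ := hc c ho
  exact (h t ht).2.of_cl (h t ht).1 h1

end dens

end Cfsg.Agent.SB.Spor
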