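import Cfsg.Agent.SB.Spor.Crit

/-!
# S5765, sporadic rows: the certificate engine, part 1 (helper63)

A group `G` acts on the numbers below `n` (`PM`).  Elements are represented by tables `t : ℕ` read by `lk t`.
All checking functions are written with recursors, for evaluation by the kernel.
-/

set_option autoImplicit false

namespace Cfsg.Agent.SB.Spor

open Subgroup Cfsg
open scoped Classical

/-! ### control structures -/

/-- evaluate `v`, then continue -/
noncomputable def frc {β : Type} (v : ℕ) (k : ℕ → β) : β :=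
  Nat.rec (k (nat_lit 0)) (fun m _ => k (Nat.succ m)) v

theorem frc_eq {β : Type} (v : ℕ) (k : ℕ → β) : frc v k = k v := by cases v <;> rfl

/-- evaluate `v`; `0` is failure -/
noncomputable def nz (v : ℕ) (k : ℕ → ℕ) : ℕ := Nat.rec (nat_lit 0) (fun m _ => k (Nat.succ m)) v

theorem nz_ne {v : ℕ} {k : ℕ → ℕ} (h : nz v k ≠ 0) : v ≠ 0 ∧ k v ≠ 0 := by
  cases v with
  | zero => exact absurd rfl h
  | succ m => exact ⟨Nat.succ_ne_zero m, h⟩

/-- if-then-else -/
noncomputable def cnd {β : Type} (c : Bool) (t e : β) : β := Bool.rec e t c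

theorem cnd_true {β : Type} (t e : β) : cnd true t e = t := rfl

theorem cnd_false {β : Type} (t e : β) : cnd false t e = e := rfl

theorem cnd_and {c t : Bool} (h : cnd c t false = true) : c = true ∧ t = true := by
  cases c
  · exact absurd h (by simp [cnd_false])
  · exact ⟨rfl, h⟩

theorem cnd_ne {c : Bool} {t : ℕ} (h : cnd c t (nat_lit 0) ≠ 0) : c = true ∧ t ≠ 0 := by
  cases c
  · exact absurd rfl h
  · exact ⟨rfl, h⟩

/-- destructure a pair -/
noncomputable def pr {α β γ : Type} (t : α × β) (k : α → β → γ) : γ := Prod.rec k t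

theorem pr_eq {α β γ : Type} (a : α) (b : β) (k : α → β → γ) : pr (a, b) k = k a b := rfl

/-- entry `i` of a list, in continuation style -/
noncomputable def getK {α β : Type} (L : List α) (d : β) (k : α → β) : ℕ → β :=
  List.rec (fun _ => d) (fun a _ ih i => Nat.rec (k a) (fun m _ => ih m) i) L

theorem getK_cases {α β : Type} (L : List α) (d : β) (k : α → β) (i : ℕ) :
    getK L d k i = d ∨ ∃ a ∈ L, getK L d k i = k a := by
  induction L generalizing i with
  | nil => exact Or.inl rfl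
  | cons a L ih =>
    cases i with
    | zero => exact Or.inr ⟨a, List.mem_cons_self, rfl⟩
    | succ m =>
      rcases ih m with h | ⟨b, hb, h⟩
      · exact Or.inl h
      · exact Or.inr ⟨b, List.mem_cons_of_mem _ hb, h⟩

/-- entry `i` of a list of numbers -/
noncomputable def getN (L : List ℕ) : ℕ → ℕ :=
  List.rec (fun _ => nat_lit 0) (fun a _ ih i => Nat.rec a (fun m _ => ih m) i) L

/-- symbol number `s` of a certificate: chunks of 256 symbols of `w` bits -/
noncomputable def rd (w mask : ℕ) (L : List ℕ) (s : ℕ) : ℕ :=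
  frc (Nat.shiftRight s (nat_lit 8)) fun c =>
    Nat.land (Nat.shiftRight (getN L c) (Nat.mul w (Nat.land s (nat_lit 255)))) mask

/-- all members of a list -/
noncomputable def allL {α : Type} (L : List α) (p : α → Bool) : Bool :=
  List.rec true (fun a _ ih => cnd (p a) ih false) L

theorem of_allL {α : Type} {L : List α} {p : α → Bool} (h : allL L p = true) : ∀ a ∈ L, p a = true := by
  induction L with
  | nil => simp
  | cons a L ih =>
    have h1 := cnd_and (c := p a) (t := allL L p) h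
    intro b hb
    rcases List.mem_cons.1 hb with rfl | hb
    exacts [h1.1, ih h1.2 b hb]

theorem allL_of {α : Type} {L : List α} {p : α → Bool} (h : ∀ a ∈ L, p a = true) : allL L p = true := by
  induction L with
  | nil => rfl
  | cons a L ih =>
    show cnd (p a) (allL L p) false = true
    rw [h a List.mem_cons_self, cnd_true]
    exact ih fun b hb => h b (List.mem_cons_of_mem _ hb)

/-- all numbers below `n` -/
noncomputable def allN (n : ℕ) (p : ℕ → Bool) : Bool := Nat.rec true (fun i ih => cnd (p i) ih false) n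

theorem of_allN {n : ℕ} {p : ℕ → Bool} (h : allN n p = true) : ∀ i < n, p i = true := by
  induction n with
  | zero => simp
  | succ m ih =>
    have h1 := cnd_and (c := p m) (t := allN m p) h
    intro i hi
    rcases Nat.lt_succ_iff_lt_or_eq.1 hi with h2 | rfl
    exacts [ih h1.2 i h2, h1.1]

/-- some number below `n` -/
noncomputable def anyN (n : ℕ) (p : ℕ → Bool) : Bool := Nat.rec false (fun i ih => cnd (p i) true ih) n

theorem of_anyN {n : ℕ} {p : ℕ → Bool} (h : anyN n p = true) : ∃ i, p i = true := by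
  induction n with
  | zero => exact absurd h (by simp [anyN])
  | succ m ih =>
    have h1 : cnd (p m) true (anyN m p) = true := h
    cases h2 : p m
    · rw [h2, cnd_false] at h1
      exact ih h1
    · exact ⟨m, h2⟩

/-- iterate -/
noncomputable def itr (f : ℕ → ℕ) (a i : ℕ) : ℕ := Nat.rec i (fun _ ih => f ih) a

/-- two functions agree on a list -/
noncomputable def eqB (B : List ℕ) (f g : ℕ → ℕ) : Bool := allL B fun b => Nat.beq (f b) (g b)

theorem of_eqB {B : List ℕ} {f g : ℕ → ℕ} (h : eqB B f g = true) : ∀ b ∈ B, f b = g b :=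
  fun b hb => Nat.eq_of_beq_eq_true (of_allL h b hb)

theorem eqB_of {B : List ℕ} {f g : ℕ → ℕ} (h : ∀ b ∈ B, f b = g b) : eqB B f g = true :=
  allL_of fun b hb => by rw [h b hb]; exact Nat.beq_refl _

/-- the identity -/
def idf (i : ℕ) : ℕ := i

/-- length of the cycle through `b` (or `0`) -/
noncomputable def cyc (f : ℕ → ℕ) (b fuel : ℕ) : ℕ → ℕ → ℕ :=
  Nat.rec (fun _ _ => nat_lit 0)
    (fun _ ih cur cnt => frc (f cur) fun nx => cnd (Nat.beq nx b) cnt (ih nx (Nat.succ cnt))) fuel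

/-- product of the cycle lengths on a list -/
noncomputable def ordB (B : List ℕ) (f : ℕ → ℕ) : ℕ :=
  List.rec (nat_lit 1) (fun b _ ih => Nat.mul (cyc f b (nat_lit 100) b (nat_lit 1)) ih) B

/-! ### models -/

/-- an action of `G` on the numbers below `n` -/
structure PM (G : Type*) [Group G] (n : ℕ) where
  act : G → ℕ → ℕ
  lt : ∀ g i, i < n → act g i < n
  one : ∀ i, i < n → act 1 i = i
  mul : ∀ g h i, i < n → act (g * h) i = act g (act h i)

variable {G : Type*} [Group G] {n : ℕ}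

namespace PM

variable (M : PM G n)

/-- `g` acts as `f` -/
def Rf (g : G) (f : ℕ → ℕ) : Prop := ∀ i, i < n → M.act g i = f i

/-- `B` is a base -/
structure Base (B : List ℕ) : Prop where
  lt : ∀ b ∈ B, b < n
  triv : ∀ g : G, (∀ b ∈ B, M.act g b = b) → g = 1

/-- tables: `lk` reads, `mk` builds, `ver` verifies -/
structure Tab (lk : ℕ → ℕ → ℕ) (mk : (ℕ → ℕ) → ℕ) (ver : (ℕ → ℕ) → ℕ → (ℕ → ℕ) → Bool) : Prop where
  mk_spec : ∀ g f, M.Rf g f → M.Rf g (lk (mk f))
  ver_spec : ∀ a b fa fb s, M.Rf a fa → M.Rf b fb → ver fa s fb = true → M.Rf (a⁻¹ * b) (lk s)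

/-- the table `t` describes an element -/
def In (lk : ℕ → ℕ → ℕ) (t : ℕ) : Prop := ∃ g, M.Rf g (lk t)

/-- the element described by a table -/
noncomputable def el (lk : ℕ → ℕ → ℕ) (t : ℕ) : G := if h : M.In lk t then h.choose else 1

variable {M}

theorem In.rf {lk : ℕ → ℕ → ℕ} {t : ℕ} (h : M.In lk t) : M.Rf (M.el lk t) (lk t) := by
  rw [el, dif_pos h]
  exact h.choose_spec

theorem rf_one : M.Rf 1 idf := M.one

theorem Rf.mul {g h : G} {f f' : ℕ → ℕ} (h1 : M.Rf g f) (h2 : M.Rf h f') : M.Rf (g * h) fun i => f (f' i) := by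
  intro i hi
  rw [M.mul _ _ _ hi, h1 _ (M.lt _ _ hi), h2 _ hi]

theorem Rf.pow {g : G} {f : ℕ → ℕ} (h : M.Rf g f) (a : ℕ) : M.Rf (g ^ a) (itr f a) := by
  induction a with
  | zero => rw [pow_zero]; exact M.one
  | succ a ih => rw [pow_succ']; exact h.mul ih

theorem act_inv (g : G) {i : ℕ} (hi : i < n) : M.act g⁻¹ (M.act g i) = i := by
  rw [← M.mul _ _ _ hi, inv_mul_cancel, M.one _ hi]

theorem Base.eq {B : List ℕ} (hB : M.Base B) {g h : G} {f f' : ℕ → ℕ} (h1 : M.Rf g f) (h2 : M.Rf h f')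
    (e : eqB B f f' = true) : g = h := by
  have := hB.triv (h⁻¹ * g) fun b hb => by
    have hb' := hB.lt b hb
    rw [M.mul _ _ _ hb', h1 _ hb', of_eqB e b hb, ← h2 _ hb', act_inv _ hb']
  exact (inv_mul_eq_one.1 this).symm

theorem Base.eqB_of_eq {B : List ℕ} (hB : M.Base B) {g : G} {f f' : ℕ → ℕ} (h1 : M.Rf g f) (h2 : M.Rf g f') :
    eqB B f f' = true :=
  eqB_of fun b hb => by rw [← h1 _ (hB.lt b hb), h2 _ (hB.lt b hb)]

theorem Base.ne_one {B : List ℕ} (hB : M.Base B) {g : G} {f : ℕ → ℕ} (h1 : M.Rf g f) (e : eqB B f idf = false) :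
    g ≠ 1 := by
  rintro rfl
  rw [hB.eqB_of_eq h1 rf_one] at e
  exact absurd e (by simp)

theorem Base.el_eq {B : List ℕ} (hB : M.Base B) {lk : ℕ → ℕ → ℕ} {g : G} {t : ℕ} (h : M.Rf g (lk t)) :
    M.el lk t = g :=
  hB.eq (In.rf ⟨g, h⟩) h (eqB_of fun _ _ => rfl)

theorem cyc_spec {g : G} {f : ℕ → ℕ} (h : M.Rf g f) {b : ℕ} (hb : b < n) (fuel : ℕ) :
    ∀ m, M.act (g ^ cyc f b fuel (M.act (g ^ m) b) (m + 1)) b = b := by
  induction fuel with
  | zero => intro m; exact (pow_zero g).symm ▸ M.one b hb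
  | succ k ih =>
    intro m
    have e : cyc f b (k + 1) (M.act (g ^ m) b) (m + 1) =
        cnd (Nat.beq (f (M.act (g ^ m) b)) b) (m + 1) (cyc f b k (f (M.act (g ^ m) b)) (m + 1 + 1)) :=
      frc_eq (f (M.act (g ^ m) b)) fun nx => cnd (Nat.beq nx b) (m + 1) (cyc f b k nx (m + 1 + 1))
    have e2 : f (M.act (g ^ m) b) = M.act (g ^ (m + 1)) b := by
      rw [← h _ (M.lt _ _ hb), pow_succ', M.mul _ _ _ hb]
    rw [e, e2]
    cases hc : Nat.beq (M.act (g ^ (m + 1)) b) b
    · rw [cnd_false]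
      exact ih (m + 1)
    · rw [cnd_true]
      exact Nat.eq_of_beq_eq_true hc

theorem act_pow_mul {g : G} {b : ℕ} (hb : b < n) {a : ℕ} (h : M.act (g ^ a) b = b) (c : ℕ) :
    M.act (g ^ (a * c)) b = b := by
  induction c with
  | zero => rw [mul_zero, pow_zero]; exact M.one b hb
  | succ c ih => rw [Nat.mul_succ, pow_add, M.mul _ _ _ hb, h, ih]

theorem ordB_fix {g : G} {f : ℕ → ℕ} (h : M.Rf g f) (B : List ℕ) (hB : ∀ b ∈ B, b < n) :
    ∀ b ∈ B, M.act (g ^ ordB B f) b = b := by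
  induction B with
  | nil => simp
  | cons a B ih =>
    have e : ordB (a :: B) f = cyc f a 100 a 1 * ordB B f := rfl
    intro b hb
    rw [e]
    rcases List.mem_cons.1 hb with rfl | hb'
    · have hb' := hB b hb
      have h1 := cyc_spec h hb' 100 0
      rw [pow_zero, M.one _ hb'] at h1
      exact act_pow_mul hb' h1 _
    · rw [mul_comm]
      exact act_pow_mul (hB b hb) (ih (fun c hc => hB c (List.mem_cons_of_mem _ hc)) b hb') _

theorem Base.pow_ordB {B : List ℕ} (hB : M.Base B) {g : G} {f : ℕ → ℕ} (h : M.Rf g f) : g ^ ordB B f = 1 :=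
  hB.triv _ (ordB_fix h B hB.lt)

end PM

/-! ### words -/

/-- the word with letters `u` in the tables `C` (first letter acts last) -/
noncomputable def cmp {β : Type} (lk : ℕ → ℕ → ℕ) (C u : List ℕ) : ((ℕ → ℕ) → β) → β :=
  List.rec (fun k => k idf) (fun i _ ih k => ih fun f => getK C (k f) (fun t => k fun q => lk t (f q)) i) u

/-- the word with 8-bit letters `c` in the tables `E` (lowest letter acts first; letter `i + 1` is table `i`) -/
noncomputable def decF {β : Type} (lk : ℕ → ℕ → ℕ) (E : List ℕ) (k : (ℕ → ℕ) → β) (fuel : ℕ) : ℕ → (ℕ → ℕ) → β :=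
  Nat.rec (fun _ f => k f) (fun _ ih c f => Nat.rec (k f) (fun m _ =>
    frc (Nat.shiftRight (Nat.succ m) (nat_lit 8)) fun c' =>
      getK E (k f) (fun t => ih c' fun q => lk t (f q)) (Nat.land m (nat_lit 255))) c) fuel

/-- the same, with inverses -/
noncomputable def decP {β : Type} (lk : ℕ → ℕ → ℕ) (E : List (ℕ × ℕ)) (k : (ℕ → ℕ) → (ℕ → ℕ) → β) (fuel : ℕ) :
    ℕ → (ℕ → ℕ) → (ℕ → ℕ) → β :=
  Nat.rec (fun _ f g => k f g) (fun _ ih c f g => Nat.rec (k f g) (fun m _ =>
    frc (Nat.shiftRight (Nat.succ m) (nat_lit 8)) fun c' =>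
      getK E (k f g) (fun t => pr t fun a b => ih c' (fun q => lk a (f q)) (fun q => g (lk b q)))
        (Nat.land m (nat_lit 255))) c) fuel

section words

variable {M : PM G n} {lk : ℕ → ℕ → ℕ}

theorem cmp_spec {β : Type} {C : List ℕ} {S : Subgroup G} (hC : ∀ t ∈ C, ∃ g ∈ S, M.Rf g (lk t)) (u : List ℕ)
    (k : (ℕ → ℕ) → β) : ∃ g ∈ S, ∃ f, M.Rf g f ∧ cmp lk C u k = k f := by
  induction u generalizing k with
  | nil => exact ⟨1, one_mem _, idf, PM.rf_one, rfl⟩
  | cons i u ih =>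
    obtain ⟨g, hg, f, h1, h2⟩ := ih fun f => getK C (k f) (fun t => k fun q => lk t (f q)) i
    have e : cmp lk C (i :: u) k = getK C (k f) (fun t => k fun q => lk t (f q)) i := h2
    rcases getK_cases C (k f) (fun t => k fun q => lk t (f q)) i with h3 | ⟨t, ht, h3⟩
    · exact ⟨g, hg, f, h1, e.trans h3⟩
    · obtain ⟨a, ha, h4⟩ := hC t ht
      exact ⟨a * g, mul_mem ha hg, _, h4.mul h1, e.trans h3⟩

theorem decF_spec {β : Type} {E : List ℕ} {S : Subgroup G} (hE : ∀ t ∈ E, ∃ g ∈ S, M.Rf g (lk t))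
    (k : (ℕ → ℕ) → β) (fuel : ℕ) : ∀ (c : ℕ) (g : G) (f : ℕ → ℕ), g ∈ S → M.Rf g f →
      ∃ g' ∈ S, ∃ f', M.Rf g' f' ∧ decF lk E k fuel c f = k f' := by
  induction fuel with
  | zero => exact fun c g f hg h => ⟨g, hg, f, h, rfl⟩
  | succ j ih =>
    intro c g f hg h
    cases c with
    | zero => exact ⟨g, hg, f, h, rfl⟩
    | succ m =>
      have e : decF lk E k (j + 1) (m + 1) f = getK E (k f) (fun t => decF lk E k j (Nat.shiftRight (Nat.succ m) 8)
          fun q => lk t (f q)) (Nat.land m 255) :=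
        frc_eq (Nat.shiftRight (Nat.succ m) 8) fun c' =>
          getK E (k f) (fun t => decF lk E k j c' fun q => lk t (f q)) (Nat.land m 255)
      rcases getK_cases E (k f) (fun t => decF lk E k j (Nat.shiftRight (Nat.succ m) 8) fun q => lk t (f q))
        (Nat.land m 255) with h3 | ⟨t, ht, h3⟩
      · exact ⟨g, hg, f, h, e.trans h3⟩
      · obtain ⟨a, ha, h4⟩ := hE t ht
        obtain ⟨g', hg', f', h5, h6⟩ := ih (Nat.shiftRight (Nat.succ m) 8) _ _ (mul_mem ha hg) (h4.mul h)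
        exact ⟨g', hg', f', h5, (e.trans h3).trans h6⟩

theorem decP_spec {β : Type} {E : List (ℕ × ℕ)} (hE : ∀ t ∈ E, ∃ g, M.Rf g (lk t.1) ∧ M.Rf g⁻¹ (lk t.2))
    (k : (ℕ → ℕ) → (ℕ → ℕ) → β) (fuel : ℕ) : ∀ (c : ℕ) (g : G) (f f' : ℕ → ℕ), M.Rf g f → M.Rf g⁻¹ f' →
      ∃ g' u u', M.Rf g' u ∧ M.Rf g'⁻¹ u' ∧ decP lk E k fuel c f f' = k u u' := by
  induction fuel with
  | zero => exact fun c g f f' h h' => ⟨g, f, f', h, h', rfl⟩
  | succ j ih =>
    intro c g f f' h h'
    cases c with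
    | zero => exact ⟨g, f, f', h, h', rfl⟩
    | succ m =>
      let F : ℕ × ℕ → β := fun t => pr t fun a b => decP lk E k j (Nat.shiftRight (Nat.succ m) 8)
        (fun q => lk a (f q)) (fun q => f' (lk b q))
      have e : decP lk E k (j + 1) (m + 1) f f' = getK E (k f f') F (Nat.land m 255) :=
        frc_eq (Nat.shiftRight (Nat.succ m) 8) fun c' => getK E (k f f') (fun t => pr t fun a b =>
          decP lk E k j c' (fun q => lk a (f q)) (fun q => f' (lk b q))) (Nat.land m 255)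
      rcases getK_cases E (k f f') F (Nat.land m 255) with h3 | ⟨⟨a, b⟩, ht, h3⟩
      · exact ⟨g, f, f', h, h', e.trans h3⟩
      · obtain ⟨x, h4, h5⟩ := hE _ ht
        obtain ⟨g', u, u', h6, h7, h8⟩ := ih (Nat.shiftRight (Nat.succ m) 8) _ _ _ (h4.mul h)
          (by rw [mul_inv_rev]; exact h'.mul h5)
        exact ⟨g', u, u', h6, h7, (e.trans h3).trans h8⟩

/-- all tables of a list describe elements -/
def AllIn (M : PM G n) (lk : ℕ → ℕ → ℕ) (E : List ℕ) : Prop := ∀ t ∈ E, M.In lk t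

theorem AllIn.top {E : List ℕ} (h : AllIn M lk E) : ∀ t ∈ E, ∃ g ∈ (⊤ : Subgroup G), M.Rf g (lk t) :=
  fun t ht => ⟨_, mem_top _, (h t ht).rf⟩

theorem AllIn.nil : AllIn M lk [] := fun _ h => absurd h (by simp)

theorem AllIn.cons {t : ℕ} {E : List ℕ} (h1 : M.In lk t) (h2 : AllIn M lk E) : AllIn M lk (t :: E) := by
  intro s hs
  rcases List.mem_cons.1 hs with rfl | hs
  exacts [h1, h2 s hs]

theorem AllIn.append {E E' : List ℕ} (h1 : AllIn M lk E) (h2 : AllIn M lk E') : AllIn M lk (E ++ E') := by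
  intro s hs
  rcases List.mem_append.1 hs with hs | hs
  exacts [h1 s hs, h2 s hs]

theorem AllIn.get {E : List ℕ} (h : AllIn M lk E) (i : ℕ) (hi : i < E.length) : M.In lk (getN E i) := by
  induction E generalizing i with
  | nil => simp at hi
  | cons a E ih =>
    cases i with
    | zero => exact h a List.mem_cons_self
    | succ m => exact ih (fun t ht => h t (List.mem_cons_of_mem _ ht)) m (by simpa using hi)

end words

/-! ### straight-line programs -/

/-- each step `(u, s, v)` verifies `u s = v` and puts `s` in front of the environment -/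
noncomputable def slp (lk : ℕ → ℕ → ℕ) (ver : (ℕ → ℕ) → ℕ → (ℕ → ℕ) → Bool) (steps : List (ℕ × ℕ × ℕ)) :
    List ℕ → Bool :=
  List.rec (fun _ => true) (fun st _ ih E => pr st fun u r => pr r fun s v =>
    decF lk E (fun fu => decF lk E (fun fv => cnd (ver fu s fv) (ih (s :: E)) false) (nat_lit 200) v idf)
      (nat_lit 200) u idf) steps

theorem slp_spec {M : PM G n} {lk : ℕ → ℕ → ℕ} {mk : (ℕ → ℕ) → ℕ} {ver : (ℕ → ℕ) → ℕ → (ℕ → ℕ) → Bool}
    (hT : M.Tab lk mk ver) (steps : List (ℕ × ℕ × ℕ)) :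
    ∀ E, AllIn M lk E → slp lk ver steps E = true → AllIn M lk (steps.map fun st => st.2.1) := by
  induction steps with
  | nil => exact fun _ _ _ => AllIn.nil
  | cons st steps ih =>
    obtain ⟨u, s, v⟩ := st
    intro E hE h
    have e : slp lk ver ((u, s, v) :: steps) E = pr (u, s, v) fun u r => pr r fun s v => decF lk E (fun fu => decF lk E
      (fun fv => cnd (ver fu s fv) (slp lk ver steps (s :: E)) false) (nat_lit 200) v idf) (nat_lit 200) u idf := rfl
    obtain ⟨a, -, fa, h1, h2⟩ := decF_spec hE.top (fun fu => decF lk E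
      (fun fv => cnd (ver fu s fv) (slp lk ver steps (s :: E)) false) (nat_lit 200) v idf) (nat_lit 200) u 1 idf
      (mem_top _) PM.rf_one
    obtain ⟨b, -, fb, h3, h4⟩ := decF_spec hE.top
      (fun fv => cnd (ver fa s fv) (slp lk ver steps (s :: E)) false) (nat_lit 200) v 1 idf (mem_top _) PM.rf_one
    rw [e, pr_eq, pr_eq, h2, h4] at h
    have h5 := cnd_and h
    have h6 : M.In lk s := ⟨_, hT.ver_spec a b fa fb s h1 h3 h5.1⟩
    exact AllIn.cons h6 (ih _ (AllIn.cons h6 hE) h5.2)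

/-- pairs of mutually inverse tables -/
noncomputable def invChk (lk : ℕ → ℕ → ℕ) (B : List ℕ) (E : List (ℕ × ℕ)) : Bool :=
  allL E fun t => pr t fun a b => eqB B (fun q => lk a (lk b q)) idf

theorem invChk_spec {M : PM G n} {lk : ℕ → ℕ → ℕ} {B : List ℕ} (hB : M.Base B) {E : List (ℕ × ℕ)}
    (h1 : ∀ t ∈ E, M.In lk t.1 ∧ M.In lk t.2) (h : invChk lk B E = true) :
    ∀ t ∈ E, M.Rf (M.el lk t.1) (lk t.1) ∧ M.Rf (M.el lk t.1)⁻¹ (lk t.2) := by
  rintro ⟨a, b⟩ ht
  obtain ⟨ha, hb⟩ := h1 _ ht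
  have h2 : eqB B (fun q => lk a (lk b q)) idf = true := of_allL h _ ht
  have h3 := hB.eq (ha.rf.mul hb.rf) PM.rf_one h2
  exact ⟨ha.rf, by rw [inv_eq_of_mul_eq_one_right h3]; exact hb.rf⟩

/-- the order of a table -/
noncomputable def ordChk (lk : ℕ → ℕ → ℕ) (B : List ℕ) (t p : ℕ) : Bool :=
  cnd (eqB B (lk t) idf) false (eqB B (itr (lk t) p) idf)

theorem ordChk_spec {M : PM G n} {lk : ℕ → ℕ → ℕ} {B : List ℕ} (hB : M.Base B) {t p : ℕ} (ht : M.In lk t)
    (hp : p.Prime) (h : ordChk lk B t p = true) : orderOf (M.el lk t) = p := by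
  have _ : Fact p.Prime := ⟨hp⟩
  unfold ordChk at h
  cases h1 : eqB B (lk t) idf
  · rw [h1, cnd_false] at h
    exact orderOf_eq_prime (hB.eq (ht.rf.pow p) PM.rf_one h) (hB.ne_one ht.rf h1)
  · rw [h1, cnd_true] at h
    exact absurd h (by simp)

/-! ### permutation tables -/

/-- entry `i` of a table with entries of `w` bits -/
noncomputable def plk (w mask t i : ℕ) : ℕ := Nat.land (Nat.shiftRight t (Nat.mul w i)) mask

/-- the table of the values of `f` at `lo, …, lo + 2^d - 1` -/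
noncomputable def pack (w mask n : ℕ) (f : ℕ → ℕ) (d : ℕ) : ℕ → ℕ :=
  Nat.rec (fun lo => Nat.land (f lo) mask) (fun d' ih lo => frc (Nat.shiftLeft (nat_lit 1) d') fun h =>
    frc (Nat.add lo h) fun mid =>
      cnd (Nat.ble n mid) (ih lo) (Nat.add (ih lo) (Nat.shiftLeft (ih mid) (Nat.mul w h)))) d

/-- build a table -/
noncomputable def pmk (w mask n d : ℕ) (f : ℕ → ℕ) : ℕ := pack w mask n f d (nat_lit 0)

/-- verify `a s = b` at all points -/
noncomputable def pver (w mask n : ℕ) (fa : ℕ → ℕ) (s : ℕ) (fb : ℕ → ℕ) : Bool :=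
  allN n fun i => frc (plk w mask s i) fun j => cnd (Nat.blt j n) (Nat.beq (fa j) (fb i)) false

theorem plk_eq (w t i : ℕ) : plk w (2 ^ w - 1) t i = t / (2 ^ w) ^ i % 2 ^ w := by
  show (t >>> (w * i)) &&& (2 ^ w - 1) = _
  rw [Nat.and_two_pow_sub_one_eq_mod, Nat.shiftRight_eq_div_pow, pow_mul]

theorem pack_succ (w mask n : ℕ) (f : ℕ → ℕ) (d lo : ℕ) : pack w mask n f (d + 1) lo =
    cnd (Nat.ble n (lo + 2 ^ d)) (pack w mask n f d lo)
      (pack w mask n f d lo + pack w mask n f d (lo + 2 ^ d) * (2 ^ w) ^ (2 ^ d)) := by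
  have e : pack w mask n f (d + 1) lo = frc (1 <<< d) fun h => frc (lo + h) fun mid =>
      cnd (Nat.ble n mid) (pack w mask n f d lo)
        (pack w mask n f d lo + pack w mask n f d mid <<< (w * h)) := rfl
  rw [e, frc_eq, frc_eq, Nat.shiftLeft_eq, Nat.shiftLeft_eq, one_mul, pow_mul]

theorem pack_spec (w n : ℕ) (f : ℕ → ℕ) (d : ℕ) : ∀ lo, pack w (2 ^ w - 1) n f d lo < (2 ^ w) ^ (2 ^ d) ∧
    ∀ i, i < 2 ^ d → lo + i < n → pack w (2 ^ w - 1) n f d lo / (2 ^ w) ^ i % 2 ^ w = f (lo + i) % 2 ^ w := by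
  have hB : 0 < 2 ^ w := by positivity
  induction d with
  | zero =>
    intro lo
    have e : pack w (2 ^ w - 1) n f 0 lo = f lo % 2 ^ w := Nat.and_two_pow_sub_one_eq_mod _ _
    rw [e]
    refine ⟨by simpa using Nat.mod_lt _ hB, fun i hi _ => ?_⟩
    have : i = 0 := by simpa using hi
    subst this
    simp
  | succ d ih =>
    intro lo
    obtain ⟨a1, a2⟩ := ih lo
    obtain ⟨b1, b2⟩ := ih (lo + 2 ^ d)
    have e2 : (2 ^ w) ^ (2 ^ (d + 1)) = (2 ^ w) ^ (2 ^ d) * (2 ^ w) ^ (2 ^ d) := by rw [← pow_add, pow_succ 2 d, mul_two]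
    have hp : 0 < (2 ^ w) ^ (2 ^ d) := by positivity
    rw [pack_succ]
    cases hc : Nat.ble n (lo + 2 ^ d)
    · rw [cnd_false]
      refine ⟨by rw [e2]; nlinarith, fun i hi hn => ?_⟩
      by_cases h1 : i < 2 ^ d
      · rw [← a2 i h1 hn]
        obtain ⟨c, hc'⟩ : ∃ c, 2 ^ d = i + 1 + c := ⟨2 ^ d - (i + 1), by omega⟩
        have e3 : (2 ^ w) ^ (2 ^ d) = (2 ^ w) ^ c * 2 ^ w * (2 ^ w) ^ i := by rw [hc']; ring
        rw [e3, ← mul_assoc, Nat.add_mul_div_right _ _ (by positivity), ← mul_assoc, Nat.add_mul_mod_self_right]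
      · obtain ⟨c, rfl⟩ : ∃ c, i = 2 ^ d + c := ⟨i - 2 ^ d, by omega⟩
        rw [pow_add, ← Nat.div_div_eq_div_mul, Nat.add_mul_div_right _ _ hp, Nat.div_eq_of_lt a1, zero_add,
          b2 c (by rw [pow_succ] at hi; omega) (by omega), add_assoc]
    · rw [cnd_true]
      have h1 : n ≤ lo + 2 ^ d := Nat.le_of_ble_eq_true hc
      exact ⟨by rw [e2]; nlinarith, fun i _ hn => a2 i (by omega) hn⟩

theorem perm_tab (M : PM G n) {w mask d : ℕ} (hm : mask = 2 ^ w - 1) (h1 : n ≤ 2 ^ w) (h2 : n ≤ 2 ^ d) :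
    M.Tab (plk w mask) (pmk w mask n d) (pver w mask n) where
  mk_spec := by
    intro g f h i hi
    subst hm
    have h3 := (pack_spec w n f d 0).2 i (by omega) (by omega)
    rw [plk_eq]
    show _ = pack w (2 ^ w - 1) n f d 0 / (2 ^ w) ^ i % 2 ^ w
    rw [h3, zero_add, ← h i hi, Nat.mod_eq_of_lt (lt_of_lt_of_le (M.lt g i hi) h1)]
  ver_spec := by
    intro a b fa fb s ha hb h i hi
    have h3 := of_allN h i hi
    rw [frc_eq] at h3
    have h4 := cnd_and h3
    have h5 : plk w mask s i < n := by simpa using h4.1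
    rw [M.mul _ _ _ hi, hb i hi, ← Nat.eq_of_beq_eq_true h4.2, ← ha _ h5, PM.act_inv _ h5]

/-- the model attached to a permutation representation -/
noncomputable def PM.ofHom (φ : G →* Equiv.Perm (Fin n)) : PM G n where
  act g i := if h : i < n then (φ g ⟨i, h⟩ : ℕ) else i
  lt g i hi := by rw [dif_pos hi]; exact Fin.is_lt _
  one i hi := by rw [dif_pos hi, map_one]; rfl
  mul g h i hi := by
    rw [dif_pos hi, dif_pos hi, dif_pos (Fin.is_lt _), map_mul]
    rfl

theorem PM.rf_ofHom (φ : G →* Equiv.Perm (Fin n)) {g : G} {f : ℕ → ℕ} (h : ∀ i : Fin n, (φ g i : ℕ) = f i) :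
    (PM.ofHom φ).Rf g f := by
  intro i hi
  show (if h : i < n then (φ g ⟨i, h⟩ : ℕ) else i) = f i
  rw [dif_pos hi, h]

end Cfsg.Agent.SB.Spor
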