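import Cfsg.Agent.SB.Spor.Fi23Of
import Cfsg.Agent.TAB.F23.G2

/-!
# S5765, the row of `Fi23` from the interface of the table (helper63)
-/

set_option autoImplicit false
set_option maxRecDepth 100000

namespace Cfsg.Agent.SB.Spor

open Cfsg

theorem boxFi23_of (h : TAB.F23.In) : Box fun K _ => Cfsg.Spor.IsoFi23 K := by
  intro K _ _ _ _ hK
  obtain ⟨T, hT⟩ := h
  have : Finite Cfsg.Spor.Fi23 := Nat.finite_of_card_ne_zero (hT.1.1 ▸ by decide)
  exact Fi23.row_of_tab hK hT.1 hT.2.1 (TAB.F23.tab_of hT) (by decide +kernel) (by decide +kernel)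

end Cfsg.Agent.SB.Spor
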