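import Cfsg.Agent.SB.Spor.Clique

/-!
# S5765, sporadic rows: glue for the generated files (helper63)
-/

set_option autoImplicit false

namespace Cfsg.Agent.SB.Spor

open Subgroup Cfsg
open scoped Classical

theorem fa_nil {α : Type*} {P : α → Prop} : ∀ a ∈ ([] : List α), P a := fun _ h => absurd h (by simp)

theorem fa_cons {α : Type*} {P : α → Prop} {a : α} {L : List α} (h : P a) (h' : ∀ b ∈ L, P b) : ∀ b ∈ a :: L, P b :=
  List.forall_mem_cons.2 ⟨h, h'⟩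

theorem ex_lt {P : ℕ → Prop} {a : ℕ} (h : ∀ c ∈ List.range a, P c) : ∀ c < a, P c :=
  fun c hc => h c (List.mem_range.2 hc)

theorem prime_mem {N p : ℕ} {F : List (ℕ × ℕ)} (hF : N = (F.map fun q => q.1 ^ q.2).prod) (hp : ∀ q ∈ F, q.1.Prime)
    (h : p.Prime) (hd : p ∣ N) : ∃ q ∈ F, q.1 = p := by
  rw [hF, h.prime.dvd_prod_iff] at hd
  obtain ⟨_, h1, h2⟩ := hd
  obtain ⟨q, hq, rfl⟩ := List.mem_map.1 h1
  exact ⟨q, hq, ((Nat.prime_dvd_prime_iff_eq h (hp q hq)).1 (h.dvd_of_dvd_pow h2)).symm⟩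

variable {G : Type*} [Group G] {n : ℕ} {M : PM G n} {lk : ℕ → ℕ → ℕ}

theorem AllIn.of_eq {E E' : List ℕ} (h : AllIn M lk E) (e : E = E') : AllIn M lk E' := e ▸ h

/-- the classes of elements of order `q.1` have representatives with property `P` -/
def PCov (M : PM G n) (lk : ℕ → ℕ → ℕ) (P : ℕ → Prop) (q : ℕ × ℕ) : Prop :=
  q.1.Prime ∧ ∃ L, Cov M lk q.1 L ∧ ∀ t ∈ L, P t

theorem pcov {P : ℕ → Prop} {p e : ℕ} {L : List ℕ} (hp : p.Prime) (h : Cov M lk p L) (h' : ∀ t ∈ L, P t) :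
    PCov M lk P (p, e) := ⟨hp, L, h, h'⟩

theorem sheet_of [Finite G] {N kb : ℕ} (hN : Nat.card G = N) {F : List (ℕ × ℕ)}
    (hF : N = (F.map fun q => q.1 ^ q.2).prod) {rs : List Rc} {reps : List ℕ}
    (hok : List.Forall₂ (fun r t => Rc.Ok r (M.el lk t)) rs reps) (hc : ∀ q ∈ F, PCov M lk (· ∈ reps) q) :
    Sheet G kb rs := by
  refine ⟨reps.map (M.el lk), List.forall₂_map_right_iff.2 hok, fun c hp => Or.inr ?_⟩
  obtain ⟨q, hq, h1⟩ := prime_mem hF (fun q hq => (hc q hq).1) hp (hN ▸ orderOf_dvd_natCard c)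
  obtain ⟨-, L, h2, h3⟩ := hc q hq
  obtain ⟨t, ht, h4⟩ := h2 c h1.symm
  exact ⟨_, List.mem_map_of_mem (h3 t ht), h4⟩

theorem big_of [Finite G] {b N₀ : ℕ} {F : List (ℕ × ℕ)} (hF : b = (F.map fun q => q.1 ^ q.2).prod)
    (hc : ∀ q ∈ F, PCov M lk (fun t => (orderOf (M.el lk t)).Prime ∧ Dn (M.el lk t) 1 N₀) q) :
    ∀ c : G, (orderOf c).Prime → orderOf c ∣ b → Dn c 1 N₀ := by
  intro c hp hd
  obtain ⟨q, hq, h1⟩ := prime_mem hF (fun q hq => (hc q hq).1) hp hd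
  obtain ⟨-, L, h2, h3⟩ := hc q hq
  exact dn_of_cov h2 h3 h1.symm

theorem Rc.Ok.big {r : Rc} {x : G} (h : r.Ok x) {N₀ : ℕ} (h1 : 0 < r.j) (h2 : r.j * N₀ ≤ r.k) :
    (orderOf x).Prime ∧ Dn x 1 N₀ := ⟨h.ord ▸ h.prime, h.dn.one h1 h2⟩

theorem rc_ok {B : List ℕ} (hB : M.Base B) {x p j k ν : ℕ} (hx : M.In lk x) (hp : p.Prime)
    (c : ordChk lk B x p = true) (hd : Dn (M.el lk x) j k) (h : 2 * j ≤ k ∧ 0 < k ∧ 0 < ν)
    (hn : ν ≤ Nat.card (normalizer (zpowers (M.el lk x) : Set G))) : Rc.Ok ⟨p, j, k, ν⟩ (M.el lk x) :=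
  ⟨ordChk_spec hB hx hp c, hp, hd, h.1, h.2.1, h.2.2, hn⟩

/-- a verified polycyclic sequence generating a group of order at least `m` -/
structure PcG (M : PM G n) (lk : ℕ → ℕ → ℕ) (gs : List (ℕ × ℕ × ℕ)) (m : ℕ) : Prop where
  gin : GsIn M lk gs
  inv : GsInv M lk gs
  pc : PCok M lk gs
  card : m ≤ Nat.card (Mg M lk gs)

theorem PcG.right [Finite G] {A R gs : List (ℕ × ℕ × ℕ)} {m k : ℕ} (h : PcG M lk gs m) (e : A ++ R = gs)
    (hk : prodO A * k ≤ m ∧ 0 < prodO A) : PcG M lk R k := by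
  subst e
  exact ⟨fun g hg => h.gin g (List.mem_append_right _ hg), fun g hg => h.inv g (List.mem_append_right _ hg),
    h.pc.right, h.pc.card_right h.card hk.1 hk.2⟩

theorem pcg_of [Finite G] {B : List ℕ} (hB : M.Base B) {gs : List (ℕ × ℕ × ℕ)}
    (hin : ∀ g ∈ gs, M.In lk g.2.1 ∧ M.In lk g.2.2) (c1 : invChk lk B (gs.map Prod.snd) = true) {rdf : ℕ → ℕ}
    (c2 : Nat.blt (nat_lit 0) (pcChk lk B rdf gs (nat_lit 1)) = true) {E : List ℕ} (hE : gs.map (fun g => g.2.1) = E)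
    {levels : List (ℕ × List ℕ)} {m : ℕ} (c3 : Nat.ble m (chain lk E n (fun _ => true) levels []) = true) :
    PcG M lk gs m := by
  have h1 : GsIn M lk gs := fun g hg => (hin g hg).1
  refine ⟨h1, fun g hg => invChk_spec hB (fun t ht => ?_) c1 g.2 (List.mem_map_of_mem hg), pc_of_chk hB h1 c2,
    Mg_ge h1 hE c3⟩
  obtain ⟨a, ha, rfl⟩ := List.mem_map.1 ht
  exact hin a ha

theorem PcG.cov [Finite G] {B : List ℕ} (hB : M.Base B) {A R gs : List (ℕ × ℕ × ℕ)} {p m d N a : ℕ}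
    (h : PcG M lk gs m) (hAR : A ++ R = gs) (hp : p.Prime) (hN : Nat.card G = N)
    (hn : prodO gs = m ∧ N = m * d ∧ ¬ p ∣ d ∧ prodO A = a) {E reps cls : List ℕ} (hE : AllIn M lk E)
    (hr : AllIn M lk reps) {fz : List (ℕ × ℕ × ℕ × ℕ)} (hf : fuse lk B E gs reps fz = true) (hz : fz.map Prod.fst = cls)
    (hc : ∀ c ∈ List.range a, ∃ rdf, covChk lk B p A R gs cls rdf c = true) : Cov M lk p reps :=
  cov_of_chk hB hAR h.gin h.pc hp h.card hn.1 (hN.trans hn.2.1) hn.2.2.1 (hz ▸ fuse_spec hB hE h.gin hr hf) hn.2.2.2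
    (ex_lt hc)

theorem PcG.dnS [Finite G] {mk : (ℕ → ℕ) → ℕ} {ver : (ℕ → ℕ) → ℕ → (ℕ → ℕ) → Bool} {ns : List ℕ → ℕ → Bool}
    {gs : List (ℕ × ℕ × ℕ)} {k : ℕ} (h : PcG M lk gs k) (hT : M.Tab lk mk ver) (hns : NsOk M lk ns) {x : ℕ}
    (hx : M.In lk x) {j lo : ℕ} (h1 : Upto (fun lo cnt => ∃ rdf, chkS lk mk ns gs x j lo cnt rdf = true) lo)
    {rdf : ℕ → ℕ} (h2 : chkS' lk mk ns gs x j lo rdf = true) : Dn (M.el lk x) (j + 1) k :=
  dn_of_chkS hT hns h.inv h.pc h.card hx h1 h2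

theorem PcG.dnP [Finite G] {mk : (ℕ → ℕ) → ℕ} {ver : (ℕ → ℕ) → ℕ → (ℕ → ℕ) → Bool} {ns : List ℕ → ℕ → Bool}
    {A R gs : List (ℕ × ℕ × ℕ)} {k : ℕ} (h : PcG M lk gs k) (hAR : A ++ R = gs) (hT : M.Tab lk mk ver)
    (hns : NsOk M lk ns) {x : ℕ} (hx : M.In lk x) {lo : ℕ}
    (h1 : Upto (fun lo cnt => ∃ rdf, chkP lk mk ns A R x lo cnt rdf = true) lo) {rdf : ℕ → ℕ}
    (h2 : chkP' lk mk ns A R x lo rdf = true) : Dn (M.el lk x) 1 k :=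
  dn_of_chkP hT hns hAR h.inv h.pc h.card hx h1 h2

end Cfsg.Agent.SB.Spor
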