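import Cfsg.Agent.SB.SporL.Row

/-!
# S5765, rows from tables whose types are orbits of the automorphism group (helper63, after helper56)

A type is the union of at most two classes: the densities lose a factor two.
-/

set_option autoImplicit false

namespace Cfsg.Agent.SB.Spor.LQ

open Subgroup Cfsg Cfsg.Agent.H786.FC Cfsg.Agent.SB.Spor Cfsg.Agent.TAB.Eng Cfsg.Agent.TAB.Use Finset
open Cfsg.Agent.SB.SporL

universe u

variable {G : Type u} [Group G] {D : Dat} {T : TD G D} {rows : List (List ℤ)}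

/-- what is needed from a table -/
structure Hyq (T : TD G D) (rows : List (List ℤ)) : Prop where
  mass : T.Mass
  zero : ∀ g, T.ty g = 0 ↔ g = 1
  pos : ∀ r ∈ rows, PosF T (nth r)
  dens : ∀ (S : Subgroup G) (c : G), D.cnt (T.ty c) * hc S c ≤ 2 * (Nat.card G * num T S (T.ty c))

theorem Hyq.n_pos (_ : Hyq T rows) : 0 < D.n := Nat.lt_of_le_of_lt (Nat.zero_le _) (T.lt 1)

theorem Hyq.num_zero (H : Hyq T rows) (S : Subgroup G) : num T S 0 = 1 := by
  rw [num, Nat.card_eq_one_iff_exists]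
  exact ⟨⟨1, (H.zero _).2 rfl⟩, fun s => Subtype.ext (Subtype.ext ((H.zero _).1 s.2))⟩

theorem Hyq.lp (H : Hyq T rows) {S : Subgroup G} {ex : List ℕ} (hx : Ex S ex) {c : List (ℕ × ℕ)} {w : ℕ → ℤ} {v : ℤ}
    (h : chkC D rows ex c w v = true) : ∑ t ∈ (range D.n).erase 0, (num T S t : ℤ) * w t < v := by
  rw [chkC, frcLZ_eq, Bool.and_eq_true, decide_eq_true_eq] at h
  have h1 := posF_cmb H.pos c S
  rw [← Finset.add_sum_erase _ _ (mem_range.2 H.n_pos), H.num_zero] at h1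
  have h2 : ∑ t ∈ (range D.n).erase 0, ((num T S t : ℤ) * nth (cmb rows c) t + (num T S t : ℤ) * w t) ≤ 0 := by
    refine Finset.sum_nonpos fun t ht => ?_
    obtain ⟨h3, h4⟩ := Finset.mem_erase.1 ht
    have h5 := allL_spec h.2 t (List.mem_range.2 (mem_range.1 h4))
    rw [Bool.or_eq_true, decide_eq_true_eq] at h5
    rcases h5 with h5 | h5
    · rw [num_skip hx h3 h5]
      simp
    · rw [← mul_add]
      exact mul_nonpos_of_nonneg_of_nonpos (Int.natCast_nonneg _) h5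
  rw [Finset.sum_add_distrib] at h2
  have h3 := h.1
  push_cast at h1
  linarith

variable [Finite G]

theorem Hyq.sum_erase (H : Hyq T rows) (S : Subgroup G) :
    ∑ t ∈ (range D.n).erase 0, (num T S t : ℤ) = Nat.card S - 1 := by
  rw [card_eq_sum (T := T) S, ← Finset.add_sum_erase _ _ (mem_range.2 H.n_pos), H.num_zero]
  push_cast
  ring

theorem Hyq.size (H : Hyq T rows) {S : Subgroup G} {ex : List ℕ} (hx : Ex S ex) {c : List (ℕ × ℕ)} {M B : ℕ}
    (h : chkS D rows ex c M B = true) : Nat.card S ≤ B := by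
  have h1 := H.lp hx h
  rw [← Finset.sum_mul, H.sum_erase, Nat.cast_mul, mul_comm] at h1
  have h2 := lt_of_mul_lt_mul_left h1 (Int.natCast_nonneg M)
  omega

theorem Hyq.num_le (H : Hyq T rows) {S : Subgroup G} {ex : List ℕ} (hx : Ex S ex) {B : ℕ} (hB : Nat.card S ≤ B)
    {x : ℕ × ℕ × ℕ × ℕ × List (ℕ × ℕ)} (h : chkT D rows ex B x = true) :
    0 < D.cnt x.1 ∧ num T S x.1 ≤ x.2.1 := by
  obtain ⟨t, A, M, β, c⟩ := x
  simp only [SporL.chkT, Bool.and_eq_true, decide_eq_true_eq, Bool.not_eq_true'] at h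
  obtain ⟨⟨⟨h0, h1⟩, h2⟩, h3⟩ := h
  refine ⟨h2, ?_⟩
  have h4 := H.lp hx h3
  have ht : t ≠ 0 := fun e => by
    rw [e] at h0
    cases h0
  have h5 : ∀ s, (num T S s : ℤ) * (cond (Nat.beq s t) (M : ℤ) 0 - β) =
      (if s = t then (num T S s : ℤ) * M else 0) - (num T S s : ℤ) * β := fun s => by
    split_ifs with h6
    · rw [h6, Nat.beq_refl, cond_true, mul_sub]
    · have h7 : Nat.beq s t = false := by
        cases h8 : Nat.beq s t
        · rfl
        · exact absurd (Nat.eq_of_beq_eq_true h8) h6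
      rw [h7, cond_false]
      ring
  simp only [h5, Finset.sum_sub_distrib, Finset.sum_ite_eq', ← Finset.sum_mul, H.sum_erase,
    Finset.mem_erase.2 ⟨ht, mem_range.2 h1⟩, if_true] at h4
  push_cast at h4
  have h6 : ((Nat.card S : ℤ) - 1) * β ≤ β * B := by
    rw [mul_comm]
    exact mul_le_mul_of_nonneg_left (by omega) (Int.natCast_nonneg _)
  have h7 : (M : ℤ) * num T S t < M * (A + 1) := by linarith
  have h8 := lt_of_mul_lt_mul_left h7 (Int.natCast_nonneg M)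
  show num T S t ≤ A
  omega

theorem Hyq.sum_le (H : Hyq T rows) {S : Subgroup G} (K e : ℕ) (L : List (ℕ × ℕ × ℕ × ℕ × List (ℕ × ℕ)))
    (hL : ∀ x ∈ L, 0 < D.cnt x.1 ∧ num T S x.1 ≤ x.2.1) : ∀ P : Finset G,
      (∀ c ∈ P, c ∈ S ∧ (orderOf c).Prime ∧ T.ty c ∈ L.map Prod.fst) →
      (K : ℚ) * ∑ c ∈ P, ((hc S c : ℚ) / Nat.card G) ^ e ≤ ((L.map fun x => term (K * 2 ^ e) e x.2.1 (D.cnt x.1)).sum : ℕ) := by
  classical
  induction L with
  | nil =>
    intro P hP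
    rw [Finset.eq_empty_of_forall_notMem fun c hc => List.not_mem_nil (hP c hc).2.2]
    simp
  | cons x L ih =>
    intro P hP
    obtain ⟨h0, h1⟩ := hL x List.mem_cons_self
    have e2 : (K : ℚ) * (x.2.1 * (2 * (x.2.1 : ℚ) / D.cnt x.1) ^ e) =
        (K * 2 ^ e : ℕ) * (x.2.1 * ((x.2.1 : ℚ) / D.cnt x.1) ^ e) := by
      rw [mul_div_assoc, mul_pow]
      push_cast
      ring
    rw [← Finset.sum_filter_add_sum_filter_not P fun c => T.ty c = x.1, mul_add, List.map_cons, List.sum_cons,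
      Nat.cast_add]
    refine add_le_add (le_trans (le_trans (mul_le_mul_of_nonneg_left ?_ (Nat.cast_nonneg K)) (le_of_eq e2)) (term_le h0))
      (ih (fun y hy => hL y (List.mem_cons_of_mem _ hy)) _ fun c hc => ?_)
    · have h2 : (P.filter fun c => T.ty c = x.1).card ≤ x.2.1 := by
        refine le_trans ?_ h1
        rw [num, ← Nat.card_eq_finsetCard]
        exact Nat.card_le_card_of_injective (fun c => ⟨⟨c.1, (hP _ (Finset.mem_filter.1 c.2).1).1⟩,
          (Finset.mem_filter.1 c.2).2⟩) fun a b hab => Subtype.ext (congrArg (fun z => ((z.1 : S) : G)) hab)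
      have h3 : ∀ c ∈ P.filter fun c => T.ty c = x.1,
          ((hc S c : ℚ) / Nat.card G) ^ e ≤ (2 * (x.2.1 : ℚ) / D.cnt x.1) ^ e := fun c hc => by
        obtain ⟨h4, h5⟩ := Finset.mem_filter.1 hc
        refine pow_le_pow_left₀ (by positivity) ?_ e
        have h6 := (H.dens S c).trans (Nat.mul_le_mul_left _ (Nat.mul_le_mul_left _ (h5 ▸ h1)))
        rw [h5, mul_left_comm] at h6
        rw [div_le_div_iff₀ (by exact_mod_cast Nat.card_pos) (by exact_mod_cast h0), mul_comm, mul_comm (2 * (x.2.1 : ℚ))]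
        exact_mod_cast h6
      refine (Finset.sum_le_card_nsmul _ _ _ h3).trans ?_
      rw [nsmul_eq_mul]
      exact mul_le_mul_of_nonneg_right (by exact_mod_cast h2) (by positivity)
    · obtain ⟨h2, h3⟩ := Finset.mem_filter.1 hc
      obtain ⟨h4, h5, h6⟩ := hP c h2
      exact ⟨h4, h5, (List.mem_cons.1 h6).resolve_left h3⟩

/-- the numerical condition for four conjugates -/
noncomputable def fin4' (D : Dat) (K B : ℕ) (L : List (ℕ × ℕ × ℕ × ℕ × List (ℕ × ℕ))) : Bool :=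
  cov D (L.map Prod.fst) && Nat.blt (L.map fun x => term (K * 2 ^ 3) 3 x.2.1 (D.cnt x.1)).sum K &&
    allL (fun x => Nat.ble (4 * x.2.1) (D.cnt x.1)) L && Nat.ble (49 * B) D.N

theorem Hyq.four (H : Hyq T rows) {S : Subgroup G} {ex : List ℕ} (hx : Ex S ex) {B K : ℕ} (hB : Nat.card S ≤ B)
    {L : List (ℕ × ℕ × ℕ × ℕ × List (ℕ × ℕ))} (h : allL (chkT D rows ex B) L = true) (hf : fin4' D K B L = true) :
    Tw S := by
  simp only [fin4', Bool.and_eq_true, Nat.blt_eq, Nat.ble_eq] at hf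
  obtain ⟨⟨⟨f1, f2⟩, f3⟩, f4⟩ := hf
  have hL := fun x hx' => H.num_le hx hB (allL_spec h x hx')
  refine ⟨four_of_sum (fun c => (hc S c : ℚ) / Nat.card G) (fun c _ _ => meet_top_le S c) ?_, fun u hu => ?_, ?_⟩
  · have h1 := H.sum_le K 3 L hL (primeElts S) fun c hc =>
      ⟨(mem_primeElts.1 hc).1, (mem_primeElts.1 hc).2, mem_of_cov f1 (mem_primeElts.1 hc).2⟩
    have h3 : (((L.map fun x => term (K * 2 ^ 3) 3 x.2.1 (D.cnt x.1)).sum : ℕ) : ℚ) < K := by exact_mod_cast f2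
    refine lt_of_mul_lt_mul_left (a := (K : ℚ)) ?_ (Nat.cast_nonneg K)
    exact (h1.trans_lt h3).trans_eq (mul_one _).symm
  · obtain ⟨c, hc', hp⟩ := exists_prime_order_zpowers hu
    obtain ⟨x, hx', e⟩ := List.mem_map.1 (mem_of_cov (T := T) f1 hp)
    have h1 := H.dens S c
    obtain ⟨h2, h3⟩ := hL x hx'
    have h4 : 4 * x.2.1 ≤ D.cnt x.1 := Nat.ble_eq ▸ allL_spec f3 x hx'
    rw [← e] at h1
    refine (Nat.mul_le_mul_left _ (hc_le_of_mem S hc')).trans (Nat.le_of_mul_le_mul_left ?_ h2)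
    nlinarith [Nat.mul_le_mul_left (Nat.card G) h3, Nat.mul_le_mul_left (Nat.card G) h4]
  · rw [H.mass.1]
    omega

theorem Hyq.excl (H : Hyq T rows) {S : Subgroup G} (hS : Group.IsSolvable S) {p q : ℕ} (k r : ℕ) (hp : p.Prime)
    (hq : q.Prime) (h : chkE D p q k r = true) (h1 : p ∣ Nat.card S) (h2 : q ∣ Nat.card S) : False := by
  simp only [chkE, Bool.and_eq_true, Nat.beq_eq] at h
  obtain ⟨⟨⟨⟨⟨c1, c2⟩, c3⟩, c4⟩, c5⟩, c6⟩ := h
  have hco : q.Coprime p := (Nat.coprime_primes hq hp).2 (ne_of_not_beq c3).symm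
  have h4 : Nat.card S ∣ q * p ^ (k + 1) * r := c1 ▸ H.mass.1 ▸ card_subgroup_dvd_card S
  obtain ⟨m, n, hm, hn, h5⟩ := (Nat.dvd_mul).1 h4
  have h3 : (q * p ^ (k + 1)).Coprime n := Nat.Coprime.coprime_dvd_right hn c2
  have h6 : q ∣ m := (Nat.Coprime.dvd_mul_right (Nat.Coprime.coprime_dvd_left (dvd_mul_right q _) h3)).1 (h5 ▸ h2)
  obtain ⟨m, rfl⟩ := h6
  have h7 : m ∣ p ^ (k + 1) := Nat.dvd_of_mul_dvd_mul_left hq.pos hm
  have h8 : p ∣ m := (Nat.Coprime.dvd_mul_left hco.symm).1 ((Nat.Coprime.dvd_mul_right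
    (Nat.Coprime.coprime_dvd_left ((dvd_pow_self p k.succ_ne_zero).mul_left q) h3)).1 (h5 ▸ h1))
  obtain ⟨y, -, hy, h9⟩ := SporA.hall_cent hS hq h5.symm (Nat.Coprime.coprime_dvd_left hm h3)
    (fun hd => (Nat.Prime.coprime_iff_not_dvd hq).1 hco (hq.dvd_of_dvd_pow (hd.trans h7))) fun d hd e => by
      obtain ⟨i, hi, rfl⟩ := (Nat.dvd_prime_pow hp).1 (hd.trans h7)
      cases i with
      | zero => rfl
      | succ i => exact absurd e (ne_of_not_beq (allL_spec c5 i (List.mem_range.2 hi)))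
  have h10 : p ∣ Nat.card (centralizer ({y} : Set G)) :=
    ((Nat.Prime.dvd_mul hp).1 ((h8.mul_left q).trans h9)).resolve_right fun hd =>
      ne_of_not_beq c4 (Nat.mod_eq_zero_of_dvd hd)
  have : Fact p.Prime := ⟨hp⟩
  obtain ⟨x, hx⟩ := exists_prime_orderOf_dvd_card' p h10
  have hx' : orderOf (x : G) = p := by rw [orderOf_coe, hx]
  have h11 : Commute y x := (mem_centralizer_singleton_iff.1 x.2).symm
  have h12 := h11.orderOf_mul_eq_mul_orderOf_of_coprime (by rwa [hy, hx'])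
  rw [hy, hx', T.ord] at h12
  exact ne_of_not_beq (allL_spec c6 _ (List.mem_range.2 (T.lt _))) h12

/-- the density of an orbit of the automorphism group -/
theorem dens_of (hm : T.Mass) (ho : Nat.card (Out G) ≤ 2)
    (hH : ∀ y y' : G, T.ty y = T.ty y' → ∃ σ : MulAut G, σ y = y') (S : Subgroup G) (c : G) :
    D.cnt (T.ty c) * hc S c ≤ 2 * (Nat.card G * num T S (T.ty c)) := by
  have hfin : Finite (MulAut G) := Finite.of_injective (fun α : MulAut G => (α : G → G)) DFunLike.coe_injective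
  have h1 : ∀ h : {h : G // T.ty h = T.ty c}, ∃ q : (MulAut G ⧸ InnG G) × G, q.1.out (q.2 * c * q.2⁻¹) = h := by
    intro h
    obtain ⟨σ, hσ⟩ := hH c h h.2.symm
    obtain ⟨⟨_, x, rfl⟩, hx⟩ := QuotientGroup.mk_out_eq_mul (InnG G) σ
    refine ⟨(σ, x⁻¹), ?_⟩
    rw [hx, ← hσ]
    simp [mul_assoc]
  choose f hf using h1
  refine le_trans ?_ (Nat.mul_le_mul_right _ (show Nat.card (MulAut G ⧸ InnG G) ≤ 2 from ho))
  rw [← hm.2 _ (T.lt c), hc, num, ← Nat.card_prod, ← Nat.card_prod, ← Nat.card_prod]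
  refine Nat.card_le_card_of_injective (fun q => ((f q.1).1, (f q.1).2 * q.2.1, ⟨⟨_, q.2.2⟩, ?_⟩)) ?_
  · have h3 := T.conj c q.2.1⁻¹
    rwa [inv_inv] at h3
  · rintro ⟨a, g, hg⟩ ⟨b, g', hg'⟩ hab
    obtain ⟨e1, e2⟩ := Prod.mk.inj hab
    obtain ⟨e2, e3⟩ := Prod.mk.inj e2
    have e4 : g⁻¹ * c * g = g'⁻¹ * c * g' := congrArg (fun z => ((z.1 : S) : G)) e3
    have e5 : ∀ x y : G, x * c * x⁻¹ = x * y * (y⁻¹ * c * y) * (x * y)⁻¹ := fun x y => by group
    obtain rfl : a = b := Subtype.ext (by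
      rw [← hf a, ← hf b, e5 _ g, e5 (f b).2 g', e4]
      exact congrArg₂ (fun (q : MulAut G ⧸ InnG G) (y : G) => q.out (y * (g'⁻¹ * c * g') * y⁻¹)) e1 e2)
    obtain rfl : g = g' := mul_left_cancel e2
    rfl

theorem hyq_of {R : Rows} (hm : T.Mass) (h : Tab T R) (hc : okH D R = true) (ho : Nat.card (Out G) ≤ 2)
    (hH : ∀ y y' : G, T.ty y = T.ty y' → ∃ σ : MulAut G, σ y = y') : Hyq T (R.rel.map Prod.snd) := by
  simp only [okH, Bool.and_eq_true, Nat.blt_eq, Nat.beq_eq] at hc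
  exact ⟨hm, TD.ty_eq_zero hm hc.1.1.2 hc.1.2 hc.2, pos_of_tab h hc.1.1.1, dens_of hm ho hH⟩

end Cfsg.Agent.SB.Spor.LQ
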