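import Cfsg.Agent.SB.SporL.Row
import Cfsg.Agent.TAB.Sm2.TitsTab
import Cfsg.Agent.H867.TitsOut

/-!
# S5765, the row of the Tits group from the types (helper63)
-/

set_option autoImplicit false
set_option maxRecDepth 100000

namespace Cfsg.Agent.SB.Spor.Tits

open Cfsg Cfsg.Agent.TAB Cfsg.Agent.TAB.Sm2 Cfsg.Agent.TAB.Sm2.Tits Cfsg.Agent.TAB.Eng Cfsg.Agent.TAB.Use
open Cfsg.Agent.SB.SporL

/-- the characters -/
noncomputable def rws : List (List ℤ) := (mkRows rA rB).rel.map Prod.snd

/-- the bounds for the types, case 0 -/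
def L0 : List (ℕ × ℕ × ℕ × ℕ × List (ℕ × ℕ)) :=
  [(1, 27, 1000, 0, [(16, 7)]), (2, 412, 1000, 3, [(83, 1), (83, 7), (42, 8), (42, 9), (42, 10), (42, 12), (42, 13)]),
    (3, 728, 1000, 0, [(250, 1), (250, 7), (125, 8), (125, 9), (125, 10), (125, 12)]), (7, 0, 1, 0, []),
    (13, 1728, 1, 0, [(1, 7)])]

/-- the bound for the order, case 0 -/
def d0 : List (ℕ × ℕ) :=
  [(325, 1), (75, 2), (25, 3), (75, 4), (50, 5), (650, 7), (138, 8), (238, 9), (163, 10), (238, 12), (100, 13)]

theorem s0 : chkS dat rws [5] d0 98 20068 = true := by decide +kernel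

theorem t0 : allL (SporL.chkT dat rws [5] 20068) L0 = true := by decide +kernel

theorem f0 : fin4 dat 1000000 20068 L0 = true := by decide +kernel

/-- the bounds for the types, case 1 -/
def L1 : List (ℕ × ℕ × ℕ × ℕ × List (ℕ × ℕ)) :=
  [(1, 117, 100000, 8, [(313, 2), (1563, 7), (156, 8), (313, 9), (313, 10), (313, 11), (156, 12), (313, 13),
    (1719, 14)]), (2, 319, 10000, 16, [(136, 2), (136, 3), (192, 7), (68, 9), (136, 10), (68, 12), (280, 13),
    (349, 14)]), (3, 532, 100, 0, [(13, 14)]), (7, 1228, 10, 0, [(3, 14)]), (13, 0, 1, 0, [])]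

/-- the bound for the order, case 1 -/
def d1 : List (ℕ × ℕ) :=
  [(2077, 2), (1000, 3), (846, 5), (923, 7), (38, 8), (2308, 9), (923, 11), (1038, 12), (1923, 13), (3846, 14)]

theorem s1 : chkS dat rws [13] d1 992 26797 = true := by decide +kernel

theorem t1 : allL (SporL.chkT dat rws [13] 26797) L1 = true := by decide +kernel

theorem f1 : fin4 dat 1000000 26797 L1 = true := by decide +kernel

theorem all {G : Type*} [Group G] [Finite G] {T : TD G dat} (H : Hyp T rws) (S : Subgroup G)
    (hS : Group.IsSolvable S) : Tw S := by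
  by_cases h13 : 13 ∣ Nat.card S
  · have h5 : Ex S [5] := (Ex.nil S).cons
      fun h => H.excl hS 1 55296 Nat.prime_five (by norm_num) (by decide +kernel) h h13
    exact H.four h5 (H.size h5 s0) t0 f0
  · exact H.four ((Ex.nil S).cons h13) (H.size ((Ex.nil S).cons h13) s1) t1 f1

/-- **the row from the types** -/
theorem row_of_core {K : Type*} [Group K] [Finite K] [IsSimpleGroup K] (h : Lie.IsoTits K) {T : TD K dat}
    (hT : Core T) : Row K := by
  have H : Hyp T rws := hyp_of hT.mass hT.tab (by decide +kernel) (unif_of hT.mass [1, 2, 3, 7] (by decide +kernel)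
    fun t ht g g' hg hg' => ⟨1, (pow_one g).symm ▸ (hT.one t ht).conj hT.mass hg hg'⟩)
  exact row_of_four (H.toHyp0.nc (by decide +kernel)) (H867.TitsOut.card_out_le h) (all H)

end Cfsg.Agent.SB.Spor.Tits
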